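import Cfsg.Agent.Lib.Techniques.Functor.Induced
import Cfsg.Agent.Lib.Techniques.ChiefTools
import Cfsg.Agent.Lib.Transfer.Frobenius
import Cfsg.Agent.Lib.Transfer.Sections

/-!
If a set of isomorphism-invariant `p`-group functors controls strong fusion in every `p`-constrained
section with trivial `p'`-core, it controls strong fusion in every section.
-/

namespace CfsgLib.Techniques.Functor

open Subgroup Cfsg
open scoped commutatorElement
open CfsgLib.Fusion (conjSub mem_conjSub conjSub_conjSub conjSub_one conjSub_mono card_conjSub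
  conjSub_eq_iff_mem_normalizer conj_mem_conjSub)

universe u

variable {p : ℕ} [Fact p.Prime] {𝓦 : Set (∀ (Q : Type u) [Group Q], Subgroup Q)}

section

variable {G : Type u} [Group G]

/-- The subgroups `N_G(W T)`. -/
def Nfam (𝓦 : Set (∀ (Q : Type u) [Group Q], Subgroup Q)) (T : Subgroup G) : Set (Subgroup G) :=
  (fun W => normalizer ((inducedFunctor W T : Subgroup G) : Set G)) '' 𝓦

theorem NSet_top_eq (T : Subgroup G) :
    NSet ⊤ ((fun W => inducedFunctor (G := G) W) '' 𝓦) T = Nfam 𝓦 T := by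
  simp only [NSet, Nfam, Set.image_image, top_inf_eq]

/-- `𝓦` controls strong fusion in `G`. -/
def CtrlAll (p : ℕ) (𝓦 : Set (∀ (Q : Type u) [Group Q], Subgroup Q)) (G : Type u) [Group G] : Prop :=
  ∀ S : Sylow p G, Ctrl (S : Subgroup G) ⊤ (Nfam 𝓦 (S : Subgroup G))

theorem image_isConjugacyFunctor [Finite G] (h𝓦 : ∀ W ∈ 𝓦, IsCharPFunctor.{u} p W) :
    ∀ W' ∈ (fun W => inducedFunctor (G := G) W) '' 𝓦, IsConjugacyFunctor p W' := by
  rintro _ ⟨W, hW, rfl⟩; exact isConjugacyFunctor_induced (h𝓦 W hW)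

theorem ctrlAll_iff [Finite G] (h𝓦 : ∀ W ∈ 𝓦, IsCharPFunctor.{u} p W) :
    CtrlAll p 𝓦 G ↔
      FamilyControlsStrongFusionIn p ((fun W => inducedFunctor (G := G) W) '' 𝓦) ⊤ := by
  constructor
  · intro h
    exact family_top_of_ctrl (default : Sylow p G) (by rw [NSet_top_eq]; exact h _)
  · intro h S
    have := family_ctrl_at (image_isConjugacyFunctor h𝓦) h S.2 le_top (relIndex_sylow_not_dvd S le_top)
    rwa [NSet_top_eq] at this

/-- Conjugations of a `p`-subgroup through a product `L * H` of subgroups containing `S`. -/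
theorem glue [Finite G] (S : Sylow p G) {𝒩 : Set (Subgroup G)} {L H : Subgroup G}
    (hSL : (S : Subgroup G) ≤ L) (hSH : (S : Subgroup G) ≤ H)
    (hLH : ∀ g : G, ∃ l ∈ L, ∃ h ∈ H, g = l * h)
    (fL : ∀ A g, g ∈ L → A ≤ (S : Subgroup G) → conjSub g A ≤ (S : Subgroup G) →
      Fus (S : Subgroup G) 𝒩 A g)
    (fH : ∀ A g, g ∈ H → A ≤ (S : Subgroup G) → conjSub g A ≤ (S : Subgroup G) →
      Fus (S : Subgroup G) 𝒩 A g) :
    Ctrl (S : Subgroup G) ⊤ 𝒩 := by
  intro A g _ hA hgA
  obtain ⟨l, hl, h, hh, rfl⟩ := hLH g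
  have hBH : conjSub h A ≤ H := by
    rintro _ ⟨a, ha, rfl⟩
    exact mul_mem (mul_mem hh (hSH (hA ha))) (inv_mem hh)
  have hBL : conjSub h A ≤ L := by
    rintro _ ⟨a, ha, rfl⟩
    have h1 := hSL (hgA (conj_mem_conjSub ha))
    have := mul_mem (mul_mem (inv_mem hl) h1) hl
    rwa [show l⁻¹ * (l * h * a * (l * h)⁻¹) * l = h * a * h⁻¹ by group] at this
  obtain ⟨m, hm, hmB⟩ := CfsgLib.Fusion.exists_conj_mem_of_le
    ((S.2.to_le hA).map (MulAut.conj h).toMonoidHom) S.2 (le_inf hBL hBH) (le_inf hSL hSH)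
    (relIndex_sylow_not_dvd S (le_inf hSL hSH))
  have hle : conjSub (m * h) A ≤ (S : Subgroup G) := by
    rw [← conjSub_conjSub]
    rintro _ ⟨x, hx, rfl⟩
    exact hmB x hx
  have h2 : Fus (S : Subgroup G) 𝒩 (conjSub (m * h) A) (l * m⁻¹) :=
    fL _ _ (mul_mem hl (inv_mem hm.1)) hle (by
      rwa [conjSub_conjSub, mul_assoc, inv_mul_cancel_left])
  have h3 := (fH A (m * h) (mul_mem hm.2 hh) hA hle).trans h2
  rwa [mul_assoc, inv_mul_cancel_left] at h3

/-- Alperin induction for subgroups containing a normal `p`-subgroup. -/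
theorem alperin_over [Finite G] (S : Sylow p G) (Φ : Subgroup G → G → Prop) (P0 : Subgroup G)
    [P0.Normal] (hres : ∀ {A B : Subgroup G} {g : G}, B ≤ A → Φ A g → Φ B g)
    (htrans : ∀ {A : Subgroup G} {g h : G}, Φ A g → Φ (conjSub g A) h → Φ A (h * g))
    (hloc : ∀ X ≤ (S : Subgroup G), P0 ≤ X → Full p (S : Subgroup G) X →
      ∀ x ∈ normalizer (X : Set G), Φ X x) :
    ∀ A g, P0 ≤ A → A ≤ (S : Subgroup G) → conjSub g A ≤ (S : Subgroup G) → Φ A g := by
  set s := Nat.card ↥(S : Subgroup G) with hs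
  have hcS : ∀ X : Subgroup G, Nat.card ↥((S : Subgroup G) ⊓ normalizer (X : Set G)) ≤ s :=
    fun X => card_le_of_le inf_le_left
  suffices key : ∀ d, ∀ A g, P0 ≤ A → A ≤ (S : Subgroup G) → conjSub g A ≤ (S : Subgroup G) →
      s - Nat.card A = d → Φ A g from fun A g h0 hA hg => key _ A g h0 hA hg rfl
  intro d
  induction d using Nat.strong_induction_on with
  | _ d ih =>
    intro A g h0 hA hgA hd
    rcases eq_or_lt_of_le hA with rfl | hlt
    · refine hloc _ le_rfl h0 (full_of_le S le_normalizer) g ?_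
      rw [← conjSub_eq_iff_mem_normalizer]
      exact eq_of_le_of_card_ge hgA (card_conjSub g _).ge
    set B := conjSub g A with hB
    have hBlt : B < (S : Subgroup G) := lt_of_le_of_ne hgA fun he => hlt.ne
      (eq_of_le_of_card_ge hlt.le (by rw [← card_conjSub g A, ← hB, he]))
    obtain ⟨u, huS, huf, huN⟩ := exists_full S hA
    obtain ⟨w, hw, hwN⟩ := exists_move S (X := B) (u := u * g⁻¹) (by
      rw [hB, conjSub_conjSub, inv_mul_cancel_right]; exact huf)
    rw [hB, conjSub_conjSub (u * g⁻¹), inv_mul_cancel_right, ← hB] at hw hwN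
    have hcA := card_lt_of_lt (lt_norm S.2 hlt)
    have hcB := card_lt_of_lt (lt_norm S.2 hBlt)
    rw [hB, card_conjSub] at hcB
    have hP0 : ∀ c X, P0 ≤ X → P0 ≤ conjSub c X := fun c X h =>
      (conjSub_normal P0 c).ge.trans (conjSub_mono c h)
    have h1 : Φ A u := hres (le_inf hA le_normalizer)
      (ih (s - Nat.card ↥((S : Subgroup G) ⊓ normalizer (A : Set G))) (by have := hcS A; omega)
        _ u (h0.trans (le_inf hA le_normalizer)) inf_le_left huN rfl)
    set x := w * g * u⁻¹ with hx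
    have hxN : x ∈ normalizer ((conjSub u A : Subgroup G) : Set G) := by
      rw [← conjSub_eq_iff_mem_normalizer, hx, conjSub_conjSub, inv_mul_cancel_right,
        ← conjSub_conjSub, ← hB, hw]
    have h2 : Φ (conjSub u A) x := hloc _ huS (hP0 u A h0) huf x hxN
    have h3 : Φ (conjSub u A) w⁻¹ := by
      set D := conjSub w ((S : Subgroup G) ⊓ normalizer (B : Set G)) with hD
      have hDc : Nat.card D = Nat.card ↥((S : Subgroup G) ⊓ normalizer (B : Set G)) :=
        card_conjSub _ _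
      have hle : conjSub u A ≤ D := by
        rw [hD, ← hw]; exact conjSub_mono w (le_inf hgA le_normalizer)
      refine hres (A := D) hle (ih (s - Nat.card D) ?_ D w⁻¹ ((hP0 u A h0).trans hle)
        (hwN.trans inf_le_left) ?_ rfl)
      · have := hcS B; rw [hB] at this hDc; omega
      · rw [hD, conjSub_conjSub, inv_mul_cancel, conjSub_one]; exact inf_le_left
    have h4 : Φ A (w⁻¹ * (x * u)) := by
      refine htrans (htrans h1 h2) ?_
      rw [← conjSub_conjSub, conjSub_eq_iff_mem_normalizer.2 hxN]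
      exact h3
    rwa [hx, inv_mul_cancel_right, inv_mul_cancel_left] at h4

variable [Finite G] (h𝓦 : ∀ W ∈ 𝓦, IsCharPFunctor.{u} p W) (S : Sylow p G)

include h𝓦 in
theorem fus_subgroup {H : Subgroup G} (hSH : (S : Subgroup G) ≤ H) (hH : CtrlAll p 𝓦 ↥H)
    {A : Subgroup G} {g : G} (hg : g ∈ H) (hA : A ≤ (S : Subgroup G))
    (hgA : conjSub g A ≤ (S : Subgroup G)) :
    Fus (S : Subgroup G) (Nfam 𝓦 (S : Subgroup G)) A g := by
  have hmap : ((S.subtype hSH : Sylow p H) : Subgroup H).map H.subtype = (S : Subgroup G) := by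
    rw [Sylow.coe_subtype, map_subgroupOf_eq_of_le hSH]
  have h := (hH (S.subtype hSH) (A.subgroupOf H) ⟨g, hg⟩ (mem_top _)
    (by rw [Sylow.coe_subtype]; exact fun x hx => hA hx)
    (by
      rw [Sylow.coe_subtype]
      rintro _ ⟨x, hx, rfl⟩
      exact hgA (conj_mem_conjSub (x := (x : G)) hx))).map H.subtype
    (T' := (S : Subgroup G)) (𝒩' := Nfam 𝓦 (S : Subgroup G)) hmap.le (by
      rintro _ ⟨W, hW, rfl⟩
      refine ⟨_, ⟨W, hW, rfl⟩, ?_⟩
      rw [← hmap]
      exact map_normalizer_induced (h𝓦 W hW) H.subtype (S.subtype hSH).2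
        fun x _ hx => Subtype.ext hx)
  rwa [map_subgroupOf_eq_of_le (hA.trans hSH)] at h

include h𝓦 in
/-- Quotients by normal `p'`-subgroups. -/
theorem ctrl_of_quotient_coprime (K : Subgroup G) [hKn : K.Normal] (hK : (Nat.card K).Coprime p)
    (h : CtrlAll p 𝓦 (G ⧸ K)) : Ctrl (S : Subgroup G) ⊤ (Nfam 𝓦 (S : Subgroup G)) := by
  intro A g _ hA hgA
  set π := QuotientGroup.mk' K with hπ
  have hSK : ∀ x ∈ (S : Subgroup G), π x = 1 → x = 1 := by
    intro x hx hx1
    obtain ⟨n, hn⟩ := S.2 ⟨x, hx⟩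
    rw [← orderOf_eq_one_iff]
    refine Nat.eq_one_of_dvd_coprimes (Nat.Coprime.pow_right n hK) ?_
      (orderOf_dvd_of_pow_eq_one (congrArg Subtype.val hn))
    exact Subgroup.orderOf_dvd_natCard K ((QuotientGroup.eq_one_iff x).1 hx1)
  let Sb : Sylow p (G ⧸ K) := S.mapSurjective (QuotientGroup.mk'_surjective K)
  obtain ⟨c, hc, hcg⟩ := h Sb (A.map π) (π g) (mem_top _)
    (by rw [Sylow.coe_mapSurjective]; exact map_mono hA) (by
      rw [Sylow.coe_mapSurjective]
      rintro _ ⟨_, ⟨a, ha, rfl⟩, rfl⟩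
      exact ⟨_, hgA (conj_mem_conjSub ha), by simp [π]⟩)
  suffices key : ∀ c, Reach (Sb : Subgroup (G ⧸ K)) (Nfam 𝓦 (Sb : Subgroup (G ⧸ K))) (A.map π) c →
      ∃ c', Reach (S : Subgroup G) (Nfam 𝓦 (S : Subgroup G)) A c' ∧ π c' = c by
    obtain ⟨c', hc', rfl⟩ := key c hc
    refine ⟨c', hc', fun a ha => ?_⟩
    have h1 : (c' * a * c'⁻¹)⁻¹ * (g * a * g⁻¹) = 1 := hSK _
      (mul_mem (inv_mem (hc'.conjSub_le hA (conj_mem_conjSub ha))) (hgA (conj_mem_conjSub ha))) (by
        simp only [map_mul, map_inv]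
        rw [hcg _ (mem_map_of_mem π ha), inv_mul_cancel])
    exact eq_of_inv_mul_eq_one h1
  intro c hc
  induction hc with
  | refl => exact ⟨1, .refl, map_one π⟩
  | @step e n H _ hH hn hle ih =>
    obtain ⟨e', he', rfl⟩ := ih
    obtain ⟨W, hW, rfl⟩ := hH
    set W0 := inducedFunctor W (S : Subgroup G) with hW0
    have hWp : IsPGroup p W0 := S.2.to_le (induced_le _)
    have hWimg : inducedFunctor W (Sb : Subgroup (G ⧸ K)) = W0.map π := by
      rw [Sylow.coe_mapSurjective, hW0]; exact (map_induced (h𝓦 W hW) π S.2 hSK).symm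
    obtain ⟨n0, rfl⟩ := QuotientGroup.mk'_surjective K n
    obtain ⟨k1, hk1, hk1m⟩ := CfsgLib.Fusion.exists_conj_mem_of_le
      (hWp.map (MulAut.conj n0).toMonoidHom) hWp (N := K ⊔ W0) (by
        rintro _ ⟨w, hw, rfl⟩
        have h1 : π (n0 * w * n0⁻¹) ∈ W0.map π := by
          rw [map_mul, map_mul, map_inv]
          have hn2 : π n0 ∈ normalizer ((inducedFunctor W (Sb : Subgroup (G ⧸ K)) : Subgroup (G ⧸ K)) :
            Set (G ⧸ K)) := hn
          rw [hWimg] at hn2
          exact (mem_normalizer_iff.1 hn2 _).1 (mem_map_of_mem π hw)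
        obtain ⟨w', hw', hw'eq⟩ := h1
        have h2 : n0 * w * n0⁻¹ * w'⁻¹ ∈ K := by
          rw [← QuotientGroup.eq_one_iff]
          show π (n0 * w * n0⁻¹ * w'⁻¹) = 1
          rw [map_mul, map_inv, hw'eq, mul_inv_cancel]
        show n0 * w * n0⁻¹ ∈ K ⊔ W0
        rw [show n0 * w * n0⁻¹ = n0 * w * n0⁻¹ * w'⁻¹ * w' by group]
        exact mul_mem (mem_sup_left h2) (mem_sup_right hw')) le_sup_right (by
        intro hd
        refine (CfsgLib.Cores.coprime_iff_not_dvd Fact.out _).1 hK (hd.trans ?_)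
        have h1 : Nat.card W0 * W0.relIndex (K ⊔ W0) = Nat.card ↥(K ⊔ W0) := by
          rw [← relIndex_bot_left W0, ← relIndex_bot_left (K ⊔ W0)]
          exact relIndex_mul_relIndex _ _ _ bot_le le_sup_right
        have h2 := CfsgLib.Cores.card_sup_dvd_mul K W0
        rw [← h1, mul_comm (Nat.card K)] at h2
        exact Nat.dvd_of_mul_dvd_mul_left Nat.card_pos h2)
    obtain ⟨w1, hw1, k0, hk0, rfl⟩ := mem_sup_of_normal_right.1 (sup_comm K W0 ▸ hk1)
    have hn' : k0 * n0 ∈ normalizer (W0 : Set G) := by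
      rw [← conjSub_eq_iff_mem_normalizer]
      refine eq_of_le_of_card_ge ?_ (card_conjSub _ _).ge
      rintro _ ⟨w, hw, rfl⟩
      have h1 := hk1m (n0 * w * n0⁻¹) ⟨w, hw, rfl⟩
      have h2 := mul_mem (mul_mem (inv_mem hw1) h1) hw1
      rwa [show w1⁻¹ * (w1 * k0 * (n0 * w * n0⁻¹) * (w1 * k0)⁻¹) * w1 =
        k0 * n0 * w * (k0 * n0)⁻¹ by group] at h2
    set B := conjSub (k0 * n0 * e') A with hB
    have hBp : IsPGroup p B := (S.2.to_le hA).map _
    have hBN : B ≤ normalizer (W0 : Set G) := by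
      rw [hB, ← conjSub_conjSub]
      refine (conjSub_mono _ ((he'.conjSub_le hA).trans ?_)).trans (conjSub_self_of_mem hn').le
      exact le_normalizer.trans (normalizer_induced_ge (h𝓦 W hW) S.2)
    have hπn : π (k0 * n0 * e') = π n0 * π e' := by
      rw [map_mul, map_mul, show π k0 = 1 from (QuotientGroup.eq_one_iff k0).2 hk0, one_mul]
    have hBSK : B ≤ (S : Subgroup G) ⊔ K := by
      rintro _ ⟨a, ha, rfl⟩
      have h1 : π (k0 * n0 * e' * a * (k0 * n0 * e')⁻¹) ∈ (S : Subgroup G).map π := by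
        have h0 := hle (conj_mem_conjSub (mem_map_of_mem π ha))
        rw [Sylow.coe_mapSurjective] at h0
        rw [map_mul, map_mul, map_inv, hπn]
        exact h0
      obtain ⟨s, hs, hseq⟩ := h1
      show k0 * n0 * e' * a * (k0 * n0 * e')⁻¹ ∈ (S : Subgroup G) ⊔ K
      rw [show k0 * n0 * e' * a * (k0 * n0 * e')⁻¹ =
        s * (s⁻¹ * (k0 * n0 * e' * a * (k0 * n0 * e')⁻¹)) by group]
      refine mul_mem (mem_sup_left hs) (mem_sup_right ?_)
      rw [← QuotientGroup.eq_one_iff]
      show π (s⁻¹ * (k0 * n0 * e' * a * (k0 * n0 * e')⁻¹)) = 1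
      rw [map_mul, map_inv, hseq, inv_mul_cancel]
    have hSM : (S : Subgroup G) ≤ ((S : Subgroup G) ⊔ K) ⊓ normalizer (W0 : Set G) :=
      le_inf le_sup_left (le_normalizer.trans (normalizer_induced_ge (h𝓦 W hW) S.2))
    obtain ⟨m, hm, hmB⟩ := CfsgLib.Fusion.exists_conj_mem_of_le hBp S.2 (le_inf hBSK hBN) hSM
      (relIndex_sylow_not_dvd S hSM)
    obtain ⟨s, hs, k, hk, rfl⟩ := mem_sup_of_normal_right.1 hm.1
    have hkN : k ∈ normalizer (W0 : Set G) := by
      have h7 : s * k ∈ normalizer (W0 : Set G) := hm.2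
      have h8 : s ∈ normalizer (W0 : Set G) := (hSM hs).2
      have := mul_mem (inv_mem h8) h7
      rwa [inv_mul_cancel_left] at this
    refine ⟨k * (k0 * n0) * e', he'.step ⟨W, hW, rfl⟩ (mul_mem hkN hn') ?_, ?_⟩
    · rw [show k * (k0 * n0) * e' = k * (k0 * n0 * e') by group, ← conjSub_conjSub]
      rintro _ ⟨b, hb, rfl⟩
      have h1 := mul_mem (mul_mem (inv_mem hs) (hmB b hb)) hs
      rwa [show s⁻¹ * (s * k * b * (s * k)⁻¹) * s = k * b * k⁻¹ by group] at h1
    · rw [show k * (k0 * n0) * e' = k * (k0 * n0 * e') by group, map_mul, hπn,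
        show π k = 1 from (QuotientGroup.eq_one_iff k).2 hk, one_mul]

end

/-- The main reduction. -/
theorem ctrlAll_of_constrained (h𝓦 : ∀ W ∈ 𝓦, IsCharPFunctor.{u} p W) :
    ∀ (G : Type u) [Group G] [Finite G],
      (∀ (Δ : Type u) [Group Δ] [Finite Δ], IsSect Δ G →
        centralizer ((pCore p Δ : Subgroup Δ) : Set Δ) ≤ pCore p Δ → CtrlAll p 𝓦 Δ) →
      CtrlAll p 𝓦 G := by
  suffices H : ∀ n, ∀ (G : Type u) [Group G] [Finite G], Nat.card G = n →
      (∀ (Δ : Type u) [Group Δ] [Finite Δ], IsSect Δ G →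
        centralizer ((pCore p Δ : Subgroup Δ) : Set Δ) ≤ pCore p Δ → CtrlAll p 𝓦 Δ) →
      CtrlAll p 𝓦 G from fun G _ _ h => H _ G rfl h
  intro n
  induction n using Nat.strong_induction_on with
  | _ n ih =>
  intro G _ _ hn hyp
  intro S
  have hsub : ∀ H : Subgroup G, H ≠ ⊤ → CtrlAll p 𝓦 ↥H := by
    intro H hH
    refine ih (Nat.card H) ?_ ↥H rfl fun Δ _ _ hΔ => hyp Δ (hΔ.trans (IsSect.subgroup H))
    rw [← hn, ← Nat.card_congr (Subgroup.topEquiv (G := G)).toEquiv]
    exact card_lt_of_lt (lt_top_iff_ne_top.2 hH)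
  have hsubFus : ∀ H : Subgroup G, H ≠ ⊤ → (S : Subgroup G) ≤ H → ∀ A g, g ∈ H →
      A ≤ (S : Subgroup G) → conjSub g A ≤ (S : Subgroup G) →
      Fus (S : Subgroup G) (Nfam 𝓦 (S : Subgroup G)) A g :=
    fun H hH hSH A g hg hA hgA => fus_subgroup h𝓦 S hSH (hsub H hH) hg hA hgA
  set P := pCore p G with hP
  have hPn : P.Normal := by
    have := CfsgLib.Cores.pCore_characteristic (G := G) p
    infer_instance
  have hPp : IsPGroup p P := CfsgLib.Cores.isPGroup_pCore p
  have hPS : P ≤ (S : Subgroup G) := CfsgLib.Cores.pCore_le_sylow S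
  rcases eq_or_ne P ⊥ with hP0 | hP0
  · have := fusion_local_global (image_isConjugacyFunctor (G := G) h𝓦) S (Full p (S : Subgroup G))
      (exists_full' S) (fun _ h => h) (fun _ _ h => full_of_le S h) (fun X hX hX0 hXf => ?_)
    · rwa [NSet_top_eq] at this
    have hXn : normalizer (X : Set G) ≠ ⊤ := by
      intro ht
      have := normalizer_eq_top_iff.1 ht
      exact hX0 (le_bot_iff.1 ((CfsgLib.Cores.le_pCore (S.2.to_le hX)).trans hP0.le))
    rw [family_iff]
    obtain ⟨T, -⟩ := (isPGroup_norm S X).comap_subtype (K := normalizer (X : Set G)) |>.exists_le_sylow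
    set N := normalizer (X : Set G)
    refine ⟨(T : Subgroup N).map N.subtype, map_subtype_le _, T.2.map _, ?_, ?_⟩
    · rw [relIndex, show ((T : Subgroup N).map N.subtype).subgroupOf N = (T : Subgroup N) from
        comap_map_eq_self_of_injective Subtype.coe_injective _]
      exact T.not_dvd_index
    · intro A g hg hA hgA
      have h := (hsub N hXn T (A.subgroupOf N) ⟨g, hg⟩ (mem_top _) (fun x hx => by
          obtain ⟨y, hy, hxy⟩ := hA hx
          exact Subtype.ext hxy ▸ hy) (by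
          rintro _ ⟨x, hx, rfl⟩
          obtain ⟨y, hy, hxy⟩ := hgA (conj_mem_conjSub (x := (x : G)) hx)
          show (⟨g, hg⟩ * x * ⟨g, hg⟩⁻¹ : ↥N) ∈ (T : Subgroup N)
          rw [← (Subtype.ext hxy : y = ⟨g, hg⟩ * x * ⟨g, hg⟩⁻¹)]
          exact hy)).map N.subtype
        (T' := (T : Subgroup N).map N.subtype)
        (𝒩' := (fun W => N ⊓ normalizer ((W ((T : Subgroup N).map N.subtype) : Subgroup G) : Set G)) ''
          ((fun W => inducedFunctor (G := G) W) '' 𝓦)) le_rfl (by
          rintro _ ⟨W, hW, rfl⟩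
          exact ⟨_, ⟨_, ⟨W, hW, rfl⟩, rfl⟩, le_inf (map_subtype_le _)
            (map_normalizer_induced (h𝓦 W hW) N.subtype T.2 fun x _ hx => Subtype.ext hx)⟩)
      rwa [map_subgroupOf_eq_of_le (hA.trans (map_subtype_le _))] at h
  have hCn : (centralizer (P : Set G)).Normal := inferInstance
  set L := centralizer (P : Set G) ⊔ (S : Subgroup G) with hL
  by_cases hLt : L = ⊤
  · -- `G = C(P) S`
    have hS : ∀ s ∈ (S : Subgroup G), ∀ A ≤ (S : Subgroup G),
        Fus (S : Subgroup G) (Nfam 𝓦 (S : Subgroup G)) A s := by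
      intro s hs A hA
      have hSsect : CtrlAll p 𝓦 ↥(S : Subgroup G) := hyp _ (IsSect.subgroup _) (by
        rw [CfsgLib.Cores.pCore_eq_top_iff.2 S.2]; exact le_top)
      exact fus_subgroup h𝓦 S le_rfl hSsect hs hA
        ((conjSub_mono s hA).trans (conjSub_self_of_mem hs).le)
    set π := QuotientGroup.mk' P with hπ
    have hSpre : ((S : Subgroup G).map π).comap π = (S : Subgroup G) := by
      rw [comap_map_eq, QuotientGroup.ker_mk', sup_eq_left]; exact hPS
    let Sb : Sylow p (G ⧸ P) := S.mapSurjective (QuotientGroup.mk'_surjective P)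
    have hSb : (Sb : Subgroup (G ⧸ P)) = (S : Subgroup G).map π := Sylow.coe_mapSurjective _ _
    have hquot : CtrlAll p 𝓦 (G ⧸ P) := by
      refine ih (Nat.card (G ⧸ P)) ?_ _ rfl fun Δ _ _ hΔ => hyp Δ (hΔ.trans (IsSect.quotient P))
      rw [← hn, P.card_eq_card_quotient_mul_card_subgroup]
      exact lt_mul_of_one_lt_right Nat.card_pos (Finite.one_lt_card_iff_nontrivial.2
        ((nontrivial_iff_ne_bot P).2 hP0))
    have hcopP : ∀ d : G, (orderOf d).Coprime p → ∀ v ∈ P, d * v = v * d := by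
      let φ : G →* MulAut P := MulAut.conjNormal
      have hrange : IsPGroup p φ.range := by
        rw [MonoidHom.range_eq_map, ← hLt, hL, Subgroup.map_sup,
          show (centralizer (P : Set G)).map φ = ⊥ from ?_, bot_sup_eq]
        · exact S.2.map φ
        · rw [Subgroup.map_eq_bot_iff]
          intro x hx
          rw [MonoidHom.mem_ker]
          ext v
          show x * (v : G) * x⁻¹ = v
          rw [← mem_centralizer_iff.1 hx (v : G) v.2, mul_inv_cancel_right]
      intro d hd v hv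
      have h1 : φ d = 1 := by
        obtain ⟨k, hk⟩ := hrange ⟨φ d, d, rfl⟩
        rw [← orderOf_eq_one_iff]
        exact Nat.eq_one_of_dvd_coprimes (Nat.Coprime.pow_right k hd) (orderOf_map_dvd φ d)
          (orderOf_dvd_of_pow_eq_one (congrArg Subtype.val hk))
      have h2 : d * v * d⁻¹ = v := congrArg (fun e : MulAut P => ((e ⟨v, hv⟩ : P) : G)) h1
      calc d * v = d * v * d⁻¹ * d := by group
        _ = v * d := by rw [h2]
    refine fun A g _ hA hgA => Fus.restrict le_sup_left (alperin_over S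
      (Fus (S : Subgroup G) (Nfam 𝓦 (S : Subgroup G))) P (fun hBA h => h.restrict hBA)
      (fun h1 h2 => h1.trans h2) ?_ (A ⊔ P) g le_sup_right (sup_le hA hPS) (by
        rw [conjSub_sup, conjSub_normal P]; exact sup_le hgA hPS))
    intro X hX hPX hXf x hx
    have hXpre : ∀ y, π y ∈ X.map π → y ∈ X := by
      intro y hy
      have : y ∈ (X.map π).comap π := hy
      rwa [comap_map_eq, QuotientGroup.ker_mk', sup_eq_left.2 hPX] at this
    have hxX : conjSub x X = X := conjSub_eq_iff_mem_normalizer.2 hx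
    obtain ⟨c, hc, hcg⟩ := hquot Sb (X.map π) (π x) (mem_top _) (by rw [hSb]; exact map_mono hX) (by
      rw [hSb]
      rintro _ ⟨_, ⟨a, ha, rfl⟩, rfl⟩
      exact ⟨_, hX (hxX.le (conj_mem_conjSub ha)), by simp [π]⟩)
    obtain ⟨h, hh, hπh, hhS⟩ : ∃ h, Fus (S : Subgroup G) (Nfam 𝓦 (S : Subgroup G)) X h ∧ π h = c ∧
        conjSub h X ≤ (S : Subgroup G) := by
      clear hcg
      induction hc with
      | refl => exact ⟨1, Fus.one, map_one π, by rwa [conjSub_one]⟩
      | @step e n H _ hH hnH hle ihr =>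
        obtain ⟨e', he', rfl, he'X⟩ := ihr
        obtain ⟨W, hW, rfl⟩ := hH
        obtain ⟨n', rfl⟩ := QuotientGroup.mk'_surjective P n
        have hle' : conjSub (n' * e') X ≤ (S : Subgroup G) := by
          rintro _ ⟨a, ha, rfl⟩
          have := hle (conj_mem_conjSub (mem_map_of_mem π ha))
          rw [hSb] at this
          show n' * e' * a * (n' * e')⁻¹ ∈ (S : Subgroup G)
          rw [← hSpre, mem_comap]
          simpa [π, mul_assoc] using this
        by_cases hSP : (S : Subgroup G) ≤ P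
        · -- `S = P`: every conjugation in `S` is one by an element of `S`
          obtain ⟨c0, hc0, s, hs, hcs⟩ := mem_sup_of_normal_left.1
            (show n' ∈ centralizer (P : Set G) ⊔ (S : Subgroup G) by rw [← hL, hLt]; exact mem_top n')
          refine ⟨n' * e', he'.trans ((hS s hs _ he'X).of_agree fun a ha => ?_), map_mul _ _ _, hle'⟩
          rw [← hcs]
          have hsa : s * a * s⁻¹ ∈ P := hSP (mul_mem (mul_mem hs (he'X ha)) (inv_mem hs))
          calc s * a * s⁻¹ = c0 * (s * a * s⁻¹) * c0⁻¹ := by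
                rw [← mem_centralizer_iff.1 hc0 _ hsa, mul_inv_cancel_right]
            _ = c0 * s * a * (c0 * s)⁻¹ := by group
        set H := (normalizer ((inducedFunctor W (Sb : Subgroup (G ⧸ P)) : Subgroup (G ⧸ P)) :
          Set (G ⧸ P))).comap π with hHdef
        have hSH : (S : Subgroup G) ≤ H := fun s hs =>
          normalizer_induced_ge (h𝓦 W hW) Sb.2 (le_normalizer (hSb ▸ mem_map_of_mem π hs))
        have hHne : H ≠ ⊤ := by
          intro ht
          have hn' : (inducedFunctor W (Sb : Subgroup (G ⧸ P))).Normal := by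
            rw [← normalizer_eq_top_iff, eq_top_iff]
            intro y _
            obtain ⟨y', rfl⟩ := QuotientGroup.mk'_surjective P y
            exact (ht.ge (mem_top y') : y' ∈ H)
          refine induced_ne_bot (h𝓦 W hW) Sb.2 ?_ (le_bot_iff.1 ((CfsgLib.Cores.le_pCore
            (Sb.2.to_le (induced_le _))).trans (CfsgLib.Cores.pCore_quotient_self p).le))
          rw [hSb, Ne, Subgroup.map_eq_bot_iff, QuotientGroup.ker_mk']
          exact hSP
        refine ⟨n' * e', he'.trans (hsubFus H hHne hSH _ n' hnH he'X ?_), map_mul _ _ _, hle'⟩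
        rwa [conjSub_conjSub]
    subst hπh
    have hhX : conjSub h X = X := by
      refine eq_of_le_of_card_ge ?_ (card_conjSub _ _).ge
      rintro _ ⟨a, ha, rfl⟩
      refine hXpre _ ?_
      show π (h * a * h⁻¹) ∈ X.map π
      rw [map_mul, map_mul, map_inv, hcg _ (mem_map_of_mem π ha)]
      exact ⟨_, hxX.le (conj_mem_conjSub ha), by simp⟩
    set N := normalizer (X : Set G)
    set d := h⁻¹ * x with hd
    have hdN : d ∈ N := mul_mem (inv_mem (conjSub_eq_iff_mem_normalizer.1 hhX)) hx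
    let D : Subgroup N := (centralizer ((X.map π : Subgroup (G ⧸ P)) : Set (G ⧸ P))).comap
      (π.comp N.subtype)
    have hDmem : ∀ e : N, e ∈ D ↔ ∀ a ∈ X, π (e : G) * π a * (π (e : G))⁻¹ = π a := by
      intro e
      show π (e : G) ∈ centralizer ((X.map π : Subgroup (G ⧸ P)) : Set (G ⧸ P)) ↔ _
      rw [mem_centralizer_iff]
      constructor
      · intro h' a ha
        rw [← h' (π a) (mem_map_of_mem π ha), mul_inv_cancel_right]
      · rintro h' _ ⟨a, ha, rfl⟩
        conv_lhs => rw [← h' a ha]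
        rw [inv_mul_cancel_right]
    have hdD : (⟨d, hdN⟩ : N) ∈ D := (hDmem _).2 fun a ha => by
      show π (h⁻¹ * x) * π a * (π (h⁻¹ * x))⁻¹ = π a
      rw [map_mul, map_inv]
      calc (π h)⁻¹ * π x * π a * ((π h)⁻¹ * π x)⁻¹
          = (π h)⁻¹ * (π x * π a * (π x)⁻¹) * π h := by group
        _ = (π h)⁻¹ * (π h * π a * (π h)⁻¹) * π h := by rw [← hcg _ (mem_map_of_mem π ha)]
        _ = π a := by group
    have hDn : D.Normal := ⟨fun e he n => (hDmem _).2 fun a ha => by
      have ha' : (n : G)⁻¹ * a * n ∈ X := by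
        simpa using (mem_normalizer_iff.1 (inv_mem n.2) a).1 ha
      have h1 := (hDmem e).1 he _ ha'
      simp only [map_mul, map_inv] at h1
      simp only [Subgroup.coe_mul, Subgroup.coe_inv, map_mul, map_inv]
      calc π (n : G) * π (e : G) * (π (n : G))⁻¹ * π a * (π (n : G) * π (e : G) * (π (n : G))⁻¹)⁻¹
          = π (n : G) * (π (e : G) * ((π (n : G))⁻¹ * π a * π (n : G)) * (π (e : G))⁻¹) *
              (π (n : G))⁻¹ := by group
        _ = π (n : G) * ((π (n : G))⁻¹ * π a * π (n : G)) * (π (n : G))⁻¹ := by rw [h1]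
        _ = π a := by group⟩
    let ψ := X.normalizerMonoidHom
    have hψ : ∀ (e : N) (a : X), ((ψ e a : X) : G) = e * a * (e : G)⁻¹ := fun e a => rfl
    have hDp : IsPGroup p (D.map ψ) := Chief.isPGroup_map_of_coprime ψ fun e he hec => by
      ext a
      rw [MulAut.one_apply, hψ]
      have hec' : (orderOf (e : G)).Coprime p := by rwa [orderOf_coe]
      obtain ⟨v, hvP, hv⟩ : ∃ v ∈ P, (e : G) * a * (e : G)⁻¹ = v * a := by
        refine ⟨(e : G) * a * (e : G)⁻¹ * (a : G)⁻¹, ?_, by group⟩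
        rw [← QuotientGroup.eq_one_iff]
        show π ((e : G) * a * (e : G)⁻¹ * (a : G)⁻¹) = 1
        simp only [map_mul, map_inv, (hDmem e).1 he a a.2, mul_inv_cancel]
      have hev : Commute (e : G) v := hcopP _ hec' v hvP
      have hk : ∀ k : ℕ, (e : G) ^ k * a * ((e : G) ^ k)⁻¹ = v ^ k * a := by
        intro k
        induction k with
        | zero => simp
        | succ k ihk =>
          calc (e : G) ^ (k + 1) * a * ((e : G) ^ (k + 1))⁻¹
              = e * ((e : G) ^ k * a * ((e : G) ^ k)⁻¹) * (e : G)⁻¹ := by rw [pow_succ']; group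
            _ = e * v ^ k * a * (e : G)⁻¹ := by rw [ihk]; group
            _ = v ^ k * e * a * (e : G)⁻¹ := by rw [(hev.pow_right k).eq]
            _ = v ^ k * (e * a * (e : G)⁻¹) := by group
            _ = v ^ (k + 1) * a := by rw [hv, pow_succ]; group
      have h1 := hk (orderOf (e : G))
      rw [pow_orderOf_eq_one] at h1
      have h2 : v ^ orderOf (e : G) = 1 := by simpa using h1.symm
      obtain ⟨m, hm⟩ := hPp ⟨v, hvP⟩
      have h4 : v = 1 := by
        rw [← orderOf_eq_one_iff]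
        exact Nat.eq_one_of_dvd_coprimes (Nat.Coprime.pow_right m hec') (orderOf_dvd_of_pow_eq_one h2)
          (orderOf_dvd_of_pow_eq_one (congrArg Subtype.val hm))
      rw [hv, h4, one_mul]
    set Q := ((S : Subgroup G) ⊓ N).subgroupOf N
    have hT : ¬ p ∣ (Q.map ψ).relIndex ψ.range := by
      have hi : ¬ p ∣ Q.relIndex ⊤ := by rw [relIndex_top_right]; exact hXf
      have := CfsgLib.Fusion.not_dvd_relIndex_map ψ (le_top : Q ≤ ⊤) hi
      rwa [← MonoidHom.range_eq_map] at this
    obtain ⟨_, ⟨r, rfl⟩, hr⟩ := CfsgLib.Fusion.exists_conj_mem_of_le hDp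
      ((isPGroup_norm S X).comap_subtype.map ψ) (map_le_range ψ D) (map_le_range ψ Q) hT
    have hψd : ψ ⟨d, hdN⟩ ∈ Q.map ψ := by
      have := hr (ψ (r⁻¹ * ⟨d, hdN⟩ * r))
        ⟨_, by simpa using hDn.conj_mem _ hdD r⁻¹, rfl⟩
      rw [← map_inv, ← map_mul, ← map_mul,
        show r * (r⁻¹ * ⟨d, hdN⟩ * r) * r⁻¹ = ⟨d, hdN⟩ by group] at this
      exact this
    obtain ⟨s, hs, hsd⟩ := hψd
    have hag : Agree X (s : G) d := fun a ha => by
      have := congrArg (fun e : MulAut X => ((e ⟨a, ha⟩ : X) : G)) hsd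
      simpa [hψ] using this
    have h2 := ((hS s (mem_subgroupOf.1 hs).1 X hX).of_agree hag).trans (h := h) (by
      rw [conjSub_eq_iff_mem_normalizer.2 hdN]; exact hh)
    rwa [hd, mul_inv_cancel_left] at h2
  · -- `C(P) S < G`
    have hSL : (S : Subgroup G) ≤ L := le_sup_right
    have hfL := hsubFus L hLt hSL
    set M := P ⊔ centralizer (P : Set G) with hM
    have hMn : M.Normal := inferInstance
    have hML : M ≤ L := sup_le (hPS.trans le_sup_right) le_sup_left
    obtain ⟨T, hT⟩ := CfsgLib.Transfer.exists_sylow_map_eq_inf M S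
    set Q0 := (S : Subgroup G) ⊓ M with hQ0
    by_cases hQt : normalizer (Q0 : Set G) = ⊤
    · -- `C_S(P) ≤ P`
      have hQn : Q0.Normal := normalizer_eq_top_iff.1 hQt
      have hQ0P : Q0 ≤ P := CfsgLib.Cores.le_pCore (S.2.to_le inf_le_left)
      set C := centralizer (P : Set G) with hC
      obtain ⟨U, hU⟩ := CfsgLib.Transfer.exists_sylow_map_eq_inf C S
      have hUC : normalizer ((U : Subgroup C) : Set C) ≤ centralizer ((U : Subgroup C) : Set C) := by
        intro c _
        refine mem_centralizer_iff.2 fun z hz => Subtype.ext ?_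
        have hzP : (z : G) ∈ P := by
          have h1 : (z : G) ∈ (S : Subgroup G) ⊓ C := hU ▸ ⟨z, hz, rfl⟩
          exact hQ0P (mem_inf.2 ⟨h1.1, mem_sup_right h1.2⟩)
        exact mem_centralizer_iff.1 c.2 (z : G) hzP
      obtain ⟨U', N', hN', hcomp⟩ :=
        CfsgLib.Transfer.hasNormalPComplement_of_normalizer_le_centralizer U hUC
      set K := (pPrimeCore p C).map C.subtype with hK
      have hKn : K.Normal := CfsgLib.Cores.map_subtype_pPrimeCore_normal p C
      have hKc : (Nat.card K).Coprime p := by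
        rw [hK, card_map_of_injective C.subtype_injective]
        exact CfsgLib.Cores.coprime_card_pPrimeCore p
      have hN'K : N'.map C.subtype ≤ K := map_mono (CfsgLib.Cores.le_pPrimeCore
        (CfsgLib.Transfer.coprime_card_of_isComplement' U' hcomp))
      have hCKP : C ≤ K ⊔ P := by
        have h1 : (U' : Subgroup C).map C.subtype ≤ P := by
          obtain ⟨c, hc⟩ := MulAction.exists_smul_eq C U U'
          rw [← hc]
          rintro _ ⟨y, hy, rfl⟩
          rw [Sylow.coe_subgroup_smul] at hy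
          obtain ⟨z, hz, rfl⟩ := hy
          have h2 : (z : G) ∈ (S : Subgroup G) ⊓ C := hU ▸ ⟨z, hz, rfl⟩
          exact hPn.conj_mem _ (hQ0P (mem_inf.2 ⟨h2.1, mem_sup_right h2.2⟩)) c
        calc C = (⊤ : Subgroup C).map C.subtype := by
              rw [← MonoidHom.range_eq_map, range_subtype]
          _ = (N' ⊔ (U' : Subgroup C)).map C.subtype := by rw [hcomp.sup_eq_top]
          _ ≤ K ⊔ P := by rw [Subgroup.map_sup]; exact sup_le_sup hN'K h1
      refine ctrl_of_quotient_coprime h𝓦 S K hKc (hyp _ (IsSect.quotient K) ?_)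
      set π := QuotientGroup.mk' K
      have hbar : P.map π ≤ pCore p (G ⧸ K) :=
        have := hPn.map π (QuotientGroup.mk'_surjective K)
        CfsgLib.Cores.le_pCore (hPp.map π)
      intro y hy
      obtain ⟨x, rfl⟩ := QuotientGroup.mk'_surjective K y
      have hxC : x ∈ C := by
        refine mem_centralizer_iff.2 fun a ha => ?_
        have h1 := mem_centralizer_iff.1 hy _ (hbar (mem_map_of_mem π ha))
        have h2 : a * x * a⁻¹ * x⁻¹ ∈ K := by
          rw [← QuotientGroup.eq_one_iff]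
          show π (a * x * a⁻¹ * x⁻¹) = 1
          simp only [map_mul, map_inv]
          change π a * π x = π x * π a at h1
          rw [h1]; group
        have h3 : a * x * a⁻¹ * x⁻¹ ∈ P := by
          rw [show a * x * a⁻¹ * x⁻¹ = a * (x * a⁻¹ * x⁻¹) by group]
          exact mul_mem ha (hPn.conj_mem _ (inv_mem ha) x)
        obtain ⟨m, hm⟩ := hPp ⟨_, h3⟩
        have h4 : a * x * a⁻¹ * x⁻¹ = 1 := by
          rw [← orderOf_eq_one_iff]
          exact Nat.eq_one_of_dvd_coprimes (Nat.Coprime.pow_right m hKc)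
            (Subgroup.orderOf_dvd_natCard K h2) (orderOf_dvd_of_pow_eq_one (congrArg Subtype.val hm))
        calc a * x = (a * x * a⁻¹ * x⁻¹) * (x * a) := by group
          _ = x * a := by rw [h4, one_mul]
      have h5 : π x ∈ (K ⊔ P).map π := mem_map_of_mem π (hCKP hxC)
      rw [Subgroup.map_sup, show K.map π = ⊥ by
        rw [Subgroup.map_eq_bot_iff, QuotientGroup.ker_mk'], bot_sup_eq] at h5
      exact hbar h5
    · -- the Frattini factorisation
      have hH : normalizer (Q0 : Set G) ≠ ⊤ := hQt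
      have hSH : (S : Subgroup G) ≤ normalizer (Q0 : Set G) := by
        intro s hs
        rw [← conjSub_eq_iff_mem_normalizer, hQ0, conjSub_inf, conjSub_self_of_mem hs,
          conjSub_normal M]
      refine glue S hSL hSH (fun g => ?_) hfL (hsubFus _ hH hSH)
      have hfr := Sylow.normalizer_sup_eq_top T
      rw [hT] at hfr
      obtain ⟨m, hm, n, hn, rfl⟩ := mem_sup_of_normal_left.1 (show g ∈ M ⊔ normalizer (Q0 : Set G) by
        rw [sup_comm, hfr]; exact mem_top g)
      exact ⟨m, hML hm, n, hn, rfl⟩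

end CfsgLib.Techniques.Functor
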