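import Cfsg.Agent.Lib.Techniques.Functor.SylowNorm

/-!
Alperin-type local-to-global induction for properties of conjugations between subgroups of a Sylow
`p`-subgroup.
-/

namespace CfsgLib.Techniques.Functor

open Subgroup Cfsg
open CfsgLib.Fusion (conjSub mem_conjSub conjSub_conjSub conjSub_one conjSub_mono card_conjSub
  conjSub_eq_iff_mem_normalizer conj_mem_conjSub)

variable {G : Type*} [Group G] [Finite G] {p : ℕ} [Fact p.Prime] (S : Sylow p G)

/-- `Φ` holds for the conjugations between subgroups of `N_S(X)` by elements of `N(X)`. -/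
def LocalAt (Φ : Subgroup G → G → Prop) (S X : Subgroup G) : Prop :=
  ∀ (A : Subgroup G) (n : G), n ∈ normalizer (X : Set G) → A ≤ S ⊓ normalizer (X : Set G) →
    conjSub n A ≤ S ⊓ normalizer (X : Set G) → Φ A n

theorem local_global (Φ : Subgroup G → G → Prop) (good : Subgroup G → Prop)
    (hres : ∀ {A B : Subgroup G} {g : G}, B ≤ A → Φ A g → Φ B g)
    (htrans : ∀ {A : Subgroup G} {g h : G}, Φ A g → Φ (conjSub g A) h → Φ A (h * g))
    (hbot : ∀ g, Φ ⊥ g)
    (hexists : ∀ X ≤ (S : Subgroup G), ∃ u, good (conjSub u X) ∧ conjSub u X ≤ (S : Subgroup G) ∧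
      conjSub u ((S : Subgroup G) ⊓ normalizer (X : Set G)) ≤ (S : Subgroup G))
    (hfull : ∀ X, good X → Full p (S : Subgroup G) X)
    (htop : ∀ X ≤ (S : Subgroup G), (S : Subgroup G) ≤ normalizer (X : Set G) → good X)
    (hloc : ∀ X ≤ (S : Subgroup G), X ≠ ⊥ → good X →
      (∀ Y ≤ (S : Subgroup G), Y ≠ ⊥ →
        Nat.card ↥((S : Subgroup G) ⊓ normalizer (X : Set G)) <
          Nat.card ↥((S : Subgroup G) ⊓ normalizer (Y : Set G)) → LocalAt Φ (S : Subgroup G) Y) →
      LocalAt Φ (S : Subgroup G) X) :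
    ∀ A g, A ≤ (S : Subgroup G) → conjSub g A ≤ (S : Subgroup G) → Φ A g := by
  set s := Nat.card ↥(S : Subgroup G) with hs
  have hcS : ∀ X : Subgroup G, Nat.card ↥((S : Subgroup G) ⊓ normalizer (X : Set G)) ≤ s :=
    fun X => card_le_of_le inf_le_left
  suffices key : ∀ d,
      (∀ A g, A ≤ (S : Subgroup G) → conjSub g A ≤ (S : Subgroup G) → s - Nat.card A = d → Φ A g) ∧
      (∀ X ≤ (S : Subgroup G), X ≠ ⊥ →
        s - Nat.card ↥((S : Subgroup G) ⊓ normalizer (X : Set G)) = d →
        LocalAt Φ (S : Subgroup G) X) from fun A g hA hg => (key _).1 A g hA hg rfl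
  intro d
  induction d using Nat.strong_induction_on with
  | _ d ih =>
    have hP : ∀ A g, A ≤ (S : Subgroup G) → conjSub g A ≤ (S : Subgroup G) → s - Nat.card A = d →
        Φ A g := by
      intro A g hA hgA hd
      rcases eq_or_ne A ⊥ with rfl | hA0
      · exact hbot g
      rcases eq_or_lt_of_le hA with rfl | hlt
      · have hg : g ∈ normalizer ((S : Subgroup G) : Set G) := by
          rw [← conjSub_eq_iff_mem_normalizer]
          exact eq_of_le_of_card_ge hgA (card_conjSub g _).ge
        refine hloc _ le_rfl hA0 (htop _ le_rfl le_normalizer) ?_ _ g hg (le_inf le_rfl le_normalizer)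
          ((conjSub_eq_iff_mem_normalizer.2 hg).le.trans (le_inf le_rfl le_normalizer))
        intro Y _ _ hlt'
        rw [inf_eq_left.2 le_normalizer] at hlt'
        exact absurd hlt' (not_lt.2 (hcS Y))
      set B := conjSub g A with hB
      have hBlt : B < (S : Subgroup G) := lt_of_le_of_ne hgA fun he => hlt.ne
        (eq_of_le_of_card_ge hlt.le (by rw [← card_conjSub g A, ← hB, he]))
      obtain ⟨u, hu, huS, huN⟩ := hexists A hA
      obtain ⟨w, hw, hwN⟩ := exists_move S (X := B) (u := u * g⁻¹) (by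
        rw [hB, conjSub_conjSub, inv_mul_cancel_right]; exact hfull _ hu)
      rw [hB, conjSub_conjSub (u * g⁻¹), inv_mul_cancel_right, ← hB] at hw hwN
      have hcA := card_lt_of_lt (lt_norm S.2 hlt)
      have hcB := card_lt_of_lt (lt_norm S.2 hBlt)
      rw [hB, card_conjSub] at hcB
      have h1 : Φ A u := hres (le_inf hA le_normalizer)
        ((ih (s - Nat.card ↥((S : Subgroup G) ⊓ normalizer (A : Set G)))
          (by have := hcS A; omega)).1 _ u inf_le_left huN rfl)
      set x := w * g * u⁻¹ with hx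
      have hxN : x ∈ normalizer ((conjSub u A : Subgroup G) : Set G) := by
        rw [← conjSub_eq_iff_mem_normalizer, hx, conjSub_conjSub, inv_mul_cancel_right,
          ← conjSub_conjSub, ← hB, hw]
      have hcA' : Nat.card A < Nat.card ↥((S : Subgroup G) ⊓
          normalizer ((conjSub u A : Subgroup G) : Set G)) :=
        hcA.trans_le (by rw [← card_conjSub u]; exact card_le_of_le (conjSub_norm_le huN))
      have h2 : Φ (conjSub u A) x :=
        (ih (s - Nat.card ↥((S : Subgroup G) ⊓ normalizer ((conjSub u A : Subgroup G) : Set G)))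
          (by have := hcS (conjSub u A); omega)).2 _ huS (conjSub_ne_bot hA0) rfl _ x hxN
          (le_inf huS le_normalizer)
          ((conjSub_eq_iff_mem_normalizer.2 hxN).le.trans (le_inf huS le_normalizer))
      have h3 : Φ (conjSub u A) w⁻¹ := by
        set D := conjSub w ((S : Subgroup G) ⊓ normalizer (B : Set G)) with hD
        have hDc : Nat.card D = Nat.card ↥((S : Subgroup G) ⊓ normalizer (B : Set G)) :=
          card_conjSub _ _
        refine hres (A := D) ?_ ((ih (s - Nat.card D) ?_).1 D w⁻¹ (hwN.trans inf_le_left) ?_ rfl)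
        · rw [hD, ← hw]; exact conjSub_mono w (le_inf hgA le_normalizer)
        · have := hcS B; rw [hB] at this hDc; omega
        · rw [hD, conjSub_conjSub, inv_mul_cancel, conjSub_one]; exact inf_le_left
      have h4 : Φ A (w⁻¹ * (x * u)) := by
        refine htrans (htrans h1 h2) ?_
        rw [← conjSub_conjSub, conjSub_eq_iff_mem_normalizer.2 hxN]
        exact h3
      rwa [hx, inv_mul_cancel_right, inv_mul_cancel_left] at h4
    refine ⟨hP, fun X hX hX0 hd => ?_⟩
    obtain ⟨u, hu, huS, huN⟩ := hexists X hX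
    have hle := conjSub_norm_le huN
    have hYlt : ∀ Y ≤ (S : Subgroup G), Y ≠ ⊥ →
        s - Nat.card ↥((S : Subgroup G) ⊓ normalizer (Y : Set G)) < d →
        LocalAt Φ (S : Subgroup G) Y := fun Y hY hY0 hlt => (ih _ hlt).2 Y hY hY0 rfl
    have hstar : LocalAt Φ (S : Subgroup G) (conjSub u X) := by
      have hc : Nat.card ↥((S : Subgroup G) ⊓ normalizer (X : Set G)) ≤
          Nat.card ↥((S : Subgroup G) ⊓ normalizer ((conjSub u X : Subgroup G) : Set G)) := by
        rw [← card_conjSub u]; exact card_le_of_le hle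
      refine hloc _ huS (conjSub_ne_bot hX0) hu fun Y hY hY0 hlt => hYlt Y hY hY0 ?_
      have := hcS Y; omega
    intro A n hn hA hnA
    have h1 : Φ A u := hres hA (hP _ u inf_le_left huN hd)
    have hn' : u * n * u⁻¹ ∈ normalizer ((conjSub u X : Subgroup G) : Set G) := by
      rw [← conjSub_normalizer]; exact conj_mem_conjSub hn
    have h2 : Φ (conjSub u A) (u * n * u⁻¹) := hstar _ _ hn' ((conjSub_mono u hA).trans hle) (by
      rw [conjSub_conjSub, inv_mul_cancel_right, ← conjSub_conjSub]
      exact (conjSub_mono u hnA).trans hle)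
    have h3 : Φ (conjSub (u * n * u⁻¹) (conjSub u A)) u⁻¹ := by
      refine hres (A := conjSub u ((S : Subgroup G) ⊓ normalizer (X : Set G))) ?_
        (hP _ u⁻¹ huN ?_ (by rw [card_conjSub]; exact hd))
      · rw [conjSub_conjSub, inv_mul_cancel_right, ← conjSub_conjSub]
        exact conjSub_mono u hnA
      · rw [conjSub_conjSub, inv_mul_cancel, conjSub_one]; exact inf_le_left
    have h4 : Φ A (u⁻¹ * (u * n * u⁻¹ * u)) := by
      refine htrans (htrans h1 h2) ?_
      rwa [← conjSub_conjSub]
    rwa [inv_mul_cancel_right, inv_mul_cancel_left] at h4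

end CfsgLib.Techniques.Functor
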