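import Cfsg.Prelude.Def_ConjugacyFunctors
import Cfsg.Agent.Lib.Fusion.Basic

/-!
Chains of conjugations inside a fixed `p`-group `T`, each step taken in a member of a set of subgroups.
-/

namespace CfsgLib.Techniques.Functor

open Subgroup Cfsg
open CfsgLib.Fusion (conjSub mem_conjSub conjSub_conjSub conjSub_one conjSub_mono card_conjSub
  conjSub_eq_iff_mem_normalizer conj_mem_conjSub)

variable {G : Type*} [Group G]

/-- `c` is reached from `1` by steps in members of `𝒩` keeping `A` inside `T`. -/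
inductive Reach (T : Subgroup G) (𝒩 : Set (Subgroup G)) (A : Subgroup G) : G → Prop
  | refl : Reach T 𝒩 A 1
  | step {c n : G} {H : Subgroup G} : Reach T 𝒩 A c → H ∈ 𝒩 → n ∈ H →
      conjSub (n * c) A ≤ T → Reach T 𝒩 A (n * c)

/-- `c` and `g` conjugate `A` in the same way. -/
def Agree (A : Subgroup G) (c g : G) : Prop := ∀ a ∈ A, c * a * c⁻¹ = g * a * g⁻¹

/-- Conjugation by `g` on `A` is a chain of conjugations inside members of `𝒩`. -/
def Fus (T : Subgroup G) (𝒩 : Set (Subgroup G)) (A : Subgroup G) (g : G) : Prop :=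
  ∃ c, Reach T 𝒩 A c ∧ Agree A c g

/-- All conjugations between subgroups of `T` by elements of `K` are chains in `𝒩`. -/
def Ctrl (T K : Subgroup G) (𝒩 : Set (Subgroup G)) : Prop :=
  ∀ (A : Subgroup G) (g : G), g ∈ K → A ≤ T → conjSub g A ≤ T → Fus T 𝒩 A g

variable {T : Subgroup G} {𝒩 : Set (Subgroup G)} {A B : Subgroup G} {c d g h : G}

theorem Agree.refl (A : Subgroup G) (g : G) : Agree A g g := fun _ _ => rfl

theorem Agree.symm (h : Agree A c g) : Agree A g c := fun a ha => (h a ha).symm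

theorem Agree.trans {e : G} (h₁ : Agree A c g) (h₂ : Agree A g e) : Agree A c e :=
  fun a ha => (h₁ a ha).trans (h₂ a ha)

theorem Agree.mono (hBA : B ≤ A) (h : Agree A c g) : Agree B c g := fun a ha => h a (hBA ha)

theorem Agree.conjSub_eq (h : Agree A c g) : conjSub c A = conjSub g A := by
  ext y
  constructor <;> rintro ⟨a, ha, rfl⟩
  · exact ⟨a, ha, by simpa using (h a ha).symm⟩
  · exact ⟨a, ha, by simpa using h a ha⟩

theorem Agree.mul (h₁ : Agree A c g) (h₂ : Agree (conjSub g A) d h) :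
    Agree A (d * c) (h * g) := fun a ha => by
  calc d * c * a * (d * c)⁻¹ = d * (c * a * c⁻¹) * d⁻¹ := by group
    _ = d * (g * a * g⁻¹) * d⁻¹ := by rw [h₁ a ha]
    _ = h * (g * a * g⁻¹) * h⁻¹ := h₂ _ (conj_mem_conjSub ha)
    _ = h * g * a * (h * g)⁻¹ := by group

theorem Reach.conjSub_le (hA : A ≤ T) (h : Reach T 𝒩 A c) : conjSub c A ≤ T := by
  cases h with
  | refl => rw [conjSub_one]; exact hA
  | step _ _ _ h => exact h

theorem Reach.mono {T' : Subgroup G} {𝒩' : Set (Subgroup G)} (hT : T ≤ T')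
    (hN : ∀ H ∈ 𝒩, ∃ H' ∈ 𝒩', H ≤ H') (hBA : B ≤ A) (h : Reach T 𝒩 A c) :
    Reach T' 𝒩' B c := by
  induction h with
  | refl => exact .refl
  | step _ hH hn hle ih =>
    obtain ⟨H', hH', hle'⟩ := hN _ hH
    exact ih.step hH' (hle' hn) ((conjSub_mono _ hBA).trans (hle.trans hT))

theorem Reach.trans (h₁ : Reach T 𝒩 A c) (h₂ : Reach T 𝒩 (conjSub c A) d) :
    Reach T 𝒩 A (d * c) := by
  induction h₂ with
  | refl => rw [one_mul]; exact h₁
  | @step e n H _ hH hn hle ih =>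
    rw [mul_assoc]
    refine ih.step hH hn ?_
    rw [conjSub_conjSub, mul_assoc] at hle
    exact hle

theorem Reach.mem {K : Subgroup G} (hN : ∀ H ∈ 𝒩, H ≤ K) (h : Reach T 𝒩 A c) : c ∈ K := by
  induction h with
  | refl => exact one_mem K
  | step _ hH hn _ ih => exact mul_mem (hN _ hH hn) ih

theorem Fus.one : Fus T 𝒩 A 1 := ⟨1, .refl, Agree.refl A 1⟩

theorem Fus.of_agree (h : Agree A g d) (hF : Fus T 𝒩 A g) : Fus T 𝒩 A d :=
  let ⟨c, hc, hcg⟩ := hF
  ⟨c, hc, hcg.trans h⟩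

theorem Fus.of_centralizes (h : g ∈ centralizer (A : Set G)) : Fus T 𝒩 A g :=
  Fus.one.of_agree fun a ha => by
    rw [← mem_centralizer_iff.1 h a ha, mul_inv_cancel_right]; simp

theorem Fus.of_mem {H : Subgroup G} (hH : H ∈ 𝒩) (hn : g ∈ H) (hle : conjSub g A ≤ T) :
    Fus T 𝒩 A g :=
  ⟨g, by simpa using (Reach.refl (T := T) (A := A)).step hH hn (by simpa using hle), Agree.refl A g⟩

theorem Fus.trans (h₁ : Fus T 𝒩 A g) (h₂ : Fus T 𝒩 (conjSub g A) h) : Fus T 𝒩 A (h * g) := by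
  obtain ⟨c, hc, hcg⟩ := h₁
  obtain ⟨d, hd, hdh⟩ := h₂
  rw [← hcg.conjSub_eq] at hd
  exact ⟨d * c, hc.trans hd, hcg.mul hdh⟩

theorem Fus.mono {T' : Subgroup G} {𝒩' : Set (Subgroup G)} (hT : T ≤ T')
    (hN : ∀ H ∈ 𝒩, ∃ H' ∈ 𝒩', H ≤ H') (hBA : B ≤ A) (h : Fus T 𝒩 A g) : Fus T' 𝒩' B g :=
  let ⟨c, hc, hcg⟩ := h
  ⟨c, hc.mono hT hN hBA, hcg.mono hBA⟩

theorem Fus.restrict (hBA : B ≤ A) (h : Fus T 𝒩 A g) : Fus T 𝒩 B g :=
  h.mono le_rfl (fun H hH => ⟨H, hH, le_rfl⟩) hBA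

theorem Fus.bind {T' : Subgroup G} {𝒩' : Set (Subgroup G)} (hA : A ≤ T)
    (hstep : ∀ H ∈ 𝒩, ∀ n ∈ H, ∀ B ≤ T, conjSub n B ≤ T → Fus T' 𝒩' B n)
    (h : Fus T 𝒩 A g) : Fus T' 𝒩' A g := by
  obtain ⟨c, hc, hcg⟩ := h
  refine Fus.of_agree hcg ?_
  clear hcg
  induction hc with
  | refl => exact Fus.one
  | @step e n H he hH hn hle ih =>
    exact ih.trans (hstep H hH n hn _ (he.conjSub_le hA) (by rw [conjSub_conjSub]; exact hle))

theorem Reach.map {G' : Type*} [Group G'] (f : G →* G') {T' : Subgroup G'}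
    {𝒩' : Set (Subgroup G')} (hT : T.map f ≤ T')
    (hN : ∀ H ∈ 𝒩, ∃ H' ∈ 𝒩', H.map f ≤ H') (h : Reach T 𝒩 A c) :
    Reach T' 𝒩' (A.map f) (f c) := by
  induction h with
  | refl => rw [map_one]; exact .refl
  | @step e n H _ hH hn hle ih =>
    obtain ⟨H', hH', hle'⟩ := hN _ hH
    rw [map_mul]
    refine ih.step hH' (hle' (mem_map_of_mem f hn)) ?_
    rintro _ ⟨_, ⟨a, ha, rfl⟩, rfl⟩
    exact hT ⟨_, hle (conj_mem_conjSub ha), by simp [mul_assoc]⟩

theorem Fus.map {G' : Type*} [Group G'] (f : G →* G') {T' : Subgroup G'}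
    {𝒩' : Set (Subgroup G')} (hT : T.map f ≤ T')
    (hN : ∀ H ∈ 𝒩, ∃ H' ∈ 𝒩', H.map f ≤ H') (h : Fus T 𝒩 A g) :
    Fus T' 𝒩' (A.map f) (f g) := by
  obtain ⟨c, hc, hcg⟩ := h
  refine ⟨f c, hc.map f hT hN, ?_⟩
  rintro _ ⟨a, ha, rfl⟩
  simp only [← map_mul, ← map_inv, hcg a ha]

/-! ### The frozen definitions -/

theorem image_subset_iff {s : Set G} :
    (fun a => g * a * g⁻¹) '' s ⊆ T ↔ conjSub g (closure s) ≤ T := by
  rw [conjSub, MonoidHom.map_closure, closure_le]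
  rfl

theorem family_iff (H : Subgroup G) (𝓦 : Set (Subgroup G → Subgroup G)) (p : ℕ) :
    FamilyControlsStrongFusionIn p 𝓦 H ↔
      ∃ T : Subgroup G, T ≤ H ∧ IsPGroup p ↥T ∧ ¬ p ∣ T.relIndex H ∧
        Ctrl T H ((fun W => H ⊓ normalizer ((W T : Subgroup G) : Set G)) '' 𝓦) := by
  refine exists_congr fun T => and_congr_right fun _ => and_congr_right fun _ =>
    and_congr_right fun _ => ⟨fun h A g hg hA hgA => ?_, fun h A g hg hA hgA => ?_⟩
  · obtain ⟨n, c, h0, hstep, him, hlast⟩ := h (A : Set G) g hg hA (by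
      rintro _ ⟨a, ha, rfl⟩; exact hgA (conj_mem_conjSub ha))
    refine ⟨c (Fin.last n), ?_, fun a ha => hlast a ha⟩
    have : ∀ i : Fin (n + 1), Reach T
        ((fun W => H ⊓ normalizer ((W T : Subgroup G) : Set G)) '' 𝓦) A (c i) := by
      intro i
      induction i using Fin.induction with
      | zero => rw [h0]; exact .refl
      | succ i ih =>
        obtain ⟨W, hW, hmem⟩ := hstep i
        have hle : conjSub (c i.succ) A ≤ T := by
          rintro _ ⟨a, ha, rfl⟩; exact him i.succ ⟨a, ha, rfl⟩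
        rw [show c i.succ = (c i.succ * (c i.castSucc)⁻¹) * c i.castSucc by group] at hle ⊢
        exact ih.step ⟨W, hW, rfl⟩ hmem hle
    exact this _
  · obtain ⟨c, hc, hcg⟩ := h (closure A) g hg ((closure_le T).2 hA) (image_subset_iff.1 hgA)
    suffices hs : ∃ (n : ℕ) (f : Fin (n + 1) → G), f 0 = 1 ∧
        (∀ i : Fin n, ∃ W ∈ 𝓦,
          f i.succ * (f i.castSucc)⁻¹ ∈ H ⊓ normalizer ((W T : Subgroup G) : Set G)) ∧
        (∀ i : Fin (n + 1), (fun a => f i * a * (f i)⁻¹) '' A ⊆ T) ∧ f (Fin.last n) = c by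
      obtain ⟨n, f, h1, h2, h3, h4⟩ := hs
      exact ⟨n, f, h1, h2, h3, fun a ha => by rw [h4]; exact hcg a (subset_closure ha)⟩
    clear hcg hgA
    induction hc with
    | refl => exact ⟨0, fun _ => 1, rfl, fun i => i.elim0,
        fun i => by rintro _ ⟨a, ha, rfl⟩; simpa using hA ha, rfl⟩
    | @step e n H' _ hH hn hle ih =>
      obtain ⟨m, f, h1, h2, h3, h4⟩ := ih
      obtain ⟨W, hW, rfl⟩ := hH
      refine ⟨m + 1, Fin.snoc f (n * e), ?_, fun i => ?_, fun i => ?_, ?_⟩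
      · rw [← Fin.castSucc_zero, Fin.snoc_castSucc, h1]
      · induction i using Fin.lastCases with
        | last => exact ⟨W, hW, by rw [Fin.succ_last, Fin.snoc_last, Fin.snoc_castSucc, h4,
            mul_inv_cancel_right]; exact hn⟩
        | cast i => rw [Fin.succ_castSucc, Fin.snoc_castSucc, Fin.snoc_castSucc]; exact h2 i
      · induction i using Fin.lastCases with
        | last => rw [Fin.snoc_last]; exact image_subset_iff.2 hle
        | cast i => rw [Fin.snoc_castSucc]; exact h3 i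
      · rw [Fin.snoc_last]

theorem Fus.exists_mem {H : Subgroup G} (h : Fus T {H} A g) : ∃ x ∈ H, Agree A x g :=
  let ⟨c, hc, hcg⟩ := h
  ⟨c, hc.mem (by rintro _ rfl; exact le_rfl), hcg⟩

theorem single_iff (H : Subgroup G) (W : Subgroup G → Subgroup G) (p : ℕ) :
    ControlsStrongFusionIn p W H ↔
      ∃ T : Subgroup G, T ≤ H ∧ IsPGroup p ↥T ∧ ¬ p ∣ T.relIndex H ∧
        Ctrl T H {H ⊓ normalizer ((W T : Subgroup G) : Set G)} := by
  refine exists_congr fun T => and_congr_right fun _ => and_congr_right fun _ =>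
    and_congr_right fun _ => ⟨fun h A g hg hA hgA => ?_, fun h A g hg hA hgA => ?_⟩
  · obtain ⟨x, hx, hxa⟩ := h (A : Set G) g hg hA (by
      rintro _ ⟨a, ha, rfl⟩; exact hgA (conj_mem_conjSub ha))
    refine (Fus.of_mem (𝒩 := {H ⊓ normalizer ((W T : Subgroup G) : Set G)}) (Set.mem_singleton _) hx ?_).of_agree (d := g) hxa
    rw [Agree.conjSub_eq (g := g) hxa]; exact hgA
  · obtain ⟨x, hx, hxa⟩ :=
      (h (closure A) g hg ((closure_le T).2 hA) (image_subset_iff.1 hgA)).exists_mem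
    exact ⟨x, hx, fun a ha => hxa a (subset_closure ha)⟩

end CfsgLib.Techniques.Functor
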