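import Cfsg.Agent.Lib.Techniques.Functor.Control

/-!
Local-to-global induction using only the normalizers of subgroups containing the centre of the Sylow
subgroup, and control by a conjugacy functor together with a central functor.
-/

namespace CfsgLib.Techniques.Functor

open Subgroup Cfsg
open scoped commutatorElement
open CfsgLib.Fusion (conjSub mem_conjSub conjSub_conjSub conjSub_one conjSub_mono card_conjSub
  conjSub_eq_iff_mem_normalizer conj_mem_conjSub)

variable {G : Type*} [Group G] [Finite G] {p : ℕ} [Fact p.Prime] (S : Sylow p G)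

omit [Finite G] [Fact p.Prime] in
/-- The centre of the Sylow subgroup. -/
def zc : Subgroup G := (S : Subgroup G) ⊓ centralizer ((S : Subgroup G) : Set G)

omit [Finite G] [Fact p.Prime] in
/-- Every conjugate keeping `N_S(Y)` inside `S` contains the centre of `S`. -/
def Ok (Y : Subgroup G) : Prop :=
  ∀ v : G, conjSub v ((S : Subgroup G) ⊓ normalizer (Y : Set G)) ≤ (S : Subgroup G) → zc S ≤ conjSub v Y

theorem centralizer_sylow {X : Subgroup G} (hf : Full p (S : Subgroup G) X) :
    ¬ p ∣ ((S : Subgroup G) ⊓ centralizer (X : Set G)).relIndex (centralizer (X : Set G)) := by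
  set C := centralizer (X : Set G)
  have hCN : C ≤ normalizer (X : Set G) := centralizer_le_normalizer _
  have hR : IsPGroup p ↥((S : Subgroup G) ⊓ C) := S.2.to_le inf_le_left
  obtain ⟨U, hU⟩ := (hR.comap_subtype (K := C)).exists_le_sylow
  obtain ⟨n, hn, hnU⟩ := CfsgLib.Fusion.exists_conj_mem_of_le (N := normalizer (X : Set G))
    (U.2.map C.subtype) (isPGroup_norm S X) ((map_subtype_le _).trans hCN) inf_le_right hf
  have hle : conjSub n ((U : Subgroup C).map C.subtype) ≤ (S : Subgroup G) ⊓ C := by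
    rintro _ ⟨y, hy, rfl⟩
    refine mem_inf.2 ⟨(mem_inf.1 (hnU y hy)).1, ?_⟩
    obtain ⟨y', -, rfl⟩ := hy
    refine mem_centralizer_iff.2 fun z hz => ?_
    have h1 : n⁻¹ * z * n ∈ X := by simpa using (mem_normalizer_iff.1 (inv_mem hn) z).1 hz
    have h2 := mem_centralizer_iff.1 y'.2 _ h1
    show z * (n * (y' : G) * n⁻¹) = n * (y' : G) * n⁻¹ * z
    calc z * (n * (y' : G) * n⁻¹) = n * (n⁻¹ * z * n * (y' : G)) * n⁻¹ := by group
      _ = n * ((y' : G) * (n⁻¹ * z * n)) * n⁻¹ := by rw [h2]
      _ = n * (y' : G) * n⁻¹ * z := by group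
  have heq : ((S : Subgroup G) ⊓ C).subgroupOf C = (U : Subgroup C) := by
    refine eq_of_le_of_card_ge hU ?_
    rw [Nat.card_congr (subgroupOfEquivOfLe inf_le_right).toEquiv,
      ← card_map_of_injective C.subtype_injective, ← card_conjSub n]
    exact card_le_of_le hle
  rw [relIndex, heq]
  exact U.not_dvd_index

theorem exists_extension {X : Subgroup G} (hf : Full p (S : Subgroup G) X) {x : G}
    (hx : x ∈ normalizer (X : Set G)) :
    ∃ m, m ∈ normalizer ((X ⊔ ((S : Subgroup G) ⊓ centralizer (X : Set G)) : Subgroup G) : Set G) ∧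
      Agree X m x := by
  set R := (S : Subgroup G) ⊓ centralizer (X : Set G) with hR
  have hC : conjSub x (centralizer (X : Set G)) = centralizer (X : Set G) := by
    refine eq_of_le_of_card_ge ?_ (card_conjSub _ _).ge
    rintro _ ⟨c, hc, rfl⟩
    refine mem_centralizer_iff.2 fun z hz => ?_
    have h1 : x⁻¹ * z * x ∈ X := by simpa using (mem_normalizer_iff.1 (inv_mem hx) z).1 hz
    have h2 := mem_centralizer_iff.1 hc _ h1
    show z * (x * c * x⁻¹) = x * c * x⁻¹ * z
    calc z * (x * c * x⁻¹) = x * (x⁻¹ * z * x * c) * x⁻¹ := by group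
      _ = x * (c * (x⁻¹ * z * x)) * x⁻¹ := by rw [h2]
      _ = x * c * x⁻¹ * z := by group
  have hRp : IsPGroup p R := S.2.to_le inf_le_left
  obtain ⟨c, hc, hcR⟩ := exists_conjSub_eq hRp inf_le_right (centralizer_sylow S hf)
    (hRp.map (MulAut.conj x).toMonoidHom) (show conjSub x R ≤ centralizer (X : Set G) from
      (conjSub_mono x inf_le_right).trans hC.le) (by
      have h := CfsgLib.Fusion.not_dvd_relIndex_map (MulAut.conj x).toMonoidHom
        (inf_le_right : R ≤ centralizer (X : Set G)) (centralizer_sylow S hf)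
      rwa [show (centralizer (X : Set G)).map (MulAut.conj x).toMonoidHom = centralizer (X : Set G) from hC] at h)
  have hm : conjSub (c⁻¹ * x) R = R := by
    rw [← conjSub_conjSub, show conjSub x R = conjSub c R from hcR.symm, conjSub_conjSub, inv_mul_cancel,
      conjSub_one]
  have hcN : c⁻¹ * x ∈ normalizer (X : Set G) :=
    mul_mem (inv_mem (centralizer_le_normalizer _ hc)) hx
  refine ⟨c⁻¹ * x, ?_, fun a ha => ?_⟩
  · rw [← conjSub_eq_iff_mem_normalizer, conjSub_sup, hm, conjSub_eq_iff_mem_normalizer.2 hcN]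
  · have h1 : x * a * x⁻¹ ∈ X := (mem_normalizer_iff.1 hx a).1 ha
    calc c⁻¹ * x * a * (c⁻¹ * x)⁻¹ = c⁻¹ * (x * a * x⁻¹ * c) := by group
      _ = c⁻¹ * (c * (x * a * x⁻¹)) := by rw [mem_centralizer_iff.1 hc _ h1]
      _ = x * a * x⁻¹ := by group

theorem ok_of_centric {X : Subgroup G} (hX : X ≤ (S : Subgroup G)) (hf : Full p (S : Subgroup G) X)
    (hc : (S : Subgroup G) ⊓ centralizer (X : Set G) ≤ X) : Ok S X := by
  intro v hv z hz
  obtain ⟨hzS, hzC⟩ := mem_inf.1 hz
  have hvX : conjSub v X ≤ (S : Subgroup G) := (conjSub_mono v (le_inf hX le_normalizer)).trans hv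
  have hz' : v⁻¹ * z * v ∈ centralizer (X : Set G) := mem_centralizer_iff.2 fun y hy => by
    have h2 := mem_centralizer_iff.1 hzC _ (hvX (conj_mem_conjSub hy))
    calc y * (v⁻¹ * z * v) = v⁻¹ * (v * y * v⁻¹ * z) * v := by group
      _ = v⁻¹ * (z * (v * y * v⁻¹)) * v := by rw [h2]
      _ = v⁻¹ * z * v * y := by group
  have hp' : IsPGroup p (zpowers (v⁻¹ * z * v)) := by
    have h := (S.2.to_le (zpowers_le.2 hzS)).map (MulAut.conj v⁻¹).toMonoidHom
    rw [MonoidHom.map_zpowers, show (MulAut.conj v⁻¹).toMonoidHom z = v⁻¹ * z * v by simp] at h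
    exact h
  obtain ⟨c, hcC, hcm⟩ := CfsgLib.Fusion.exists_conj_mem_of_le (N := centralizer (X : Set G)) hp'
    (S.2.to_le inf_le_left) (zpowers_le.2 hz') inf_le_right (centralizer_sylow S hf)
  have h3 : c * (v⁻¹ * z * v) * c⁻¹ ∈ X := hc (hcm _ (mem_zpowers _))
  have h4 : v⁻¹ * z * v ∈ X := by
    have h5 := mem_centralizer_iff.1 hcC _ h3
    have e : v⁻¹ * z * v = c * (v⁻¹ * z * v) * c⁻¹ := by
      calc v⁻¹ * z * v = c⁻¹ * (c * (v⁻¹ * z * v) * c⁻¹ * c) := by group
        _ = c⁻¹ * (c * (c * (v⁻¹ * z * v) * c⁻¹)) := by rw [h5]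
        _ = c * (v⁻¹ * z * v) * c⁻¹ := by rw [inv_mul_cancel_left]
    rw [e]; exact h3
  have h6 := conj_mem_conjSub (g := v) h4
  rwa [show v * (v⁻¹ * z * v) * v⁻¹ = z by group] at h6

theorem ok_functor {W : Subgroup G → Subgroup G} (hW : IsConjugacyFunctor p W)
    (hWZ : ∀ H : Subgroup G, IsPGroup p ↥H → H ⊓ centralizer (H : Set G) ≤ W H) {X : Subgroup G}
    (hX : X ≤ (S : Subgroup G)) (hf : Full p (S : Subgroup G) X) :
    Ok S (W ((S : Subgroup G) ⊓ normalizer (X : Set G))) := by
  set Q := (S : Subgroup G) ⊓ normalizer (X : Set G) with hQ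
  have hQp : IsPGroup p Q := isPGroup_norm S X
  intro v hv z hz
  obtain ⟨hzS, hzC⟩ := mem_inf.1 hz
  have hvQ : conjSub v Q ≤ (S : Subgroup G) := (conjSub_mono v (le_inf inf_le_left
    (le_normalizer.trans (normalizer_le_normalizer_functor hW hQp)))).trans hv
  have hz' : v⁻¹ * z * v ∈ centralizer (Q : Set G) := mem_centralizer_iff.2 fun y hy => by
    have h2 := mem_centralizer_iff.1 hzC _ (hvQ (conj_mem_conjSub hy))
    calc y * (v⁻¹ * z * v) = v⁻¹ * (v * y * v⁻¹ * z) * v := by group
      _ = v⁻¹ * (z * (v * y * v⁻¹)) * v := by rw [h2]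
      _ = v⁻¹ * z * v * y := by group
  have hp' : IsPGroup p (zpowers (v⁻¹ * z * v)) := by
    have h := (S.2.to_le (zpowers_le.2 hzS)).map (MulAut.conj v⁻¹).toMonoidHom
    rw [MonoidHom.map_zpowers, show (MulAut.conj v⁻¹).toMonoidHom z = v⁻¹ * z * v by simp] at h
    exact h
  have hzX : v⁻¹ * z * v ∈ normalizer (X : Set G) :=
    centralizer_le_normalizer _ (centralizer_le (le_inf hX le_normalizer) hz')
  have hsup := hp'.to_sup_of_normal_right' hQp (zpowers_le.2 (centralizer_le_normalizer _ hz'))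
  have heq : Q = zpowers (v⁻¹ * z * v) ⊔ Q := CfsgLib.Fusion.eq_of_le_of_not_dvd
    (N := normalizer (X : Set G)) hsup le_sup_right (sup_le (zpowers_le.2 hzX) inf_le_right) hf
  have h4 : v⁻¹ * z * v ∈ Q := heq.ge (mem_sup_left (mem_zpowers _))
  have h6 := conj_mem_conjSub (g := v) (hWZ Q hQp (mem_inf.2 ⟨h4, hz'⟩))
  rwa [show v * (v⁻¹ * z * v) * v⁻¹ = z by group] at h6

/-- Alperin-type induction using only subgroups containing the centre of `S`. -/
theorem central_local_global (Φ : Subgroup G → G → Prop)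
    (hres : ∀ {A B : Subgroup G} {g : G}, B ≤ A → Φ A g → Φ B g)
    (htrans : ∀ {A : Subgroup G} {g h : G}, Φ A g → Φ (conjSub g A) h → Φ A (h * g))
    (hagree : ∀ {A : Subgroup G} {g g' : G}, Agree A g g' → Φ A g → Φ A g')
    (hbot : ∀ g, Φ ⊥ g)
    (hloc : ∀ X ≤ (S : Subgroup G), X ≠ ⊥ → Full p (S : Subgroup G) X → zc S ≤ X →
      (∀ Y ≤ (S : Subgroup G), Y ≠ ⊥ → Ok S Y →
        Nat.card ↥((S : Subgroup G) ⊓ normalizer (X : Set G)) <
          Nat.card ↥((S : Subgroup G) ⊓ normalizer (Y : Set G)) → LocalAt Φ (S : Subgroup G) Y) →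
      LocalAt Φ (S : Subgroup G) X) :
    ∀ A g, A ≤ (S : Subgroup G) → conjSub g A ≤ (S : Subgroup G) → Φ A g := by
  set s := Nat.card ↥(S : Subgroup G) with hs
  have hcS : ∀ X : Subgroup G, Nat.card ↥((S : Subgroup G) ⊓ normalizer (X : Set G)) ≤ s :=
    fun X => card_le_of_le inf_le_left
  suffices key : ∀ d,
      (∀ A g, A ≤ (S : Subgroup G) → conjSub g A ≤ (S : Subgroup G) → s - Nat.card A = d → Φ A g) ∧
      (∀ X ≤ (S : Subgroup G), X ≠ ⊥ → Ok S X →
        s - Nat.card ↥((S : Subgroup G) ⊓ normalizer (X : Set G)) = d →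
        LocalAt Φ (S : Subgroup G) X) from fun A g hA hg => (key _).1 A g hA hg rfl
  intro d
  induction d using Nat.strong_induction_on with
  | _ d ih =>
    have hP : ∀ A g, A ≤ (S : Subgroup G) → conjSub g A ≤ (S : Subgroup G) → s - Nat.card A = d →
        Φ A g := by
      intro A g hA hgA hd
      rcases eq_or_ne A ⊥ with rfl | hA0
      · exact hbot g
      rcases eq_or_lt_of_le hA with rfl | hlt
      · have hg : g ∈ normalizer ((S : Subgroup G) : Set G) := by
          rw [← conjSub_eq_iff_mem_normalizer]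
          exact eq_of_le_of_card_ge hgA (card_conjSub g _).ge
        refine hloc _ le_rfl hA0 (full_of_le S le_normalizer) inf_le_left ?_ _ g hg (le_inf le_rfl le_normalizer)
          ((conjSub_eq_iff_mem_normalizer.2 hg).le.trans (le_inf le_rfl le_normalizer))
        intro Y _ _ _ hlt'
        rw [inf_eq_left.2 le_normalizer] at hlt'
        exact absurd hlt' (not_lt.2 (hcS Y))
      set B := conjSub g A with hB
      have hBlt : B < (S : Subgroup G) := lt_of_le_of_ne hgA fun he => hlt.ne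
        (eq_of_le_of_card_ge hlt.le (by rw [← card_conjSub g A, ← hB, he]))
      obtain ⟨u, hu, huS, huN⟩ := exists_full' S A hA
      obtain ⟨w, hw, hwN⟩ := exists_move S (X := B) (u := u * g⁻¹) (by
        rw [hB, conjSub_conjSub, inv_mul_cancel_right]; exact hu)
      rw [hB, conjSub_conjSub (u * g⁻¹), inv_mul_cancel_right, ← hB] at hw hwN
      have hcA := card_lt_of_lt (lt_norm S.2 hlt)
      have hcB := card_lt_of_lt (lt_norm S.2 hBlt)
      rw [hB, card_conjSub] at hcB
      have h1 : Φ A u := hres (le_inf hA le_normalizer)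
        ((ih (s - Nat.card ↥((S : Subgroup G) ⊓ normalizer (A : Set G)))
          (by have := hcS A; omega)).1 _ u inf_le_left huN rfl)
      set x := w * g * u⁻¹ with hx
      have hxN : x ∈ normalizer ((conjSub u A : Subgroup G) : Set G) := by
        rw [← conjSub_eq_iff_mem_normalizer, hx, conjSub_conjSub, inv_mul_cancel_right,
          ← conjSub_conjSub, ← hB, hw]
      have hcA' : Nat.card A < Nat.card ↥((S : Subgroup G) ⊓
          normalizer ((conjSub u A : Subgroup G) : Set G)) :=
        hcA.trans_le (by rw [← card_conjSub u]; exact card_le_of_le (conjSub_norm_le huN))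
      have h2 : Φ (conjSub u A) x := by
        by_cases hcent : (S : Subgroup G) ⊓ centralizer ((conjSub u A : Subgroup G) : Set G) ≤ conjSub u A
        · exact (ih (s - Nat.card ↥((S : Subgroup G) ⊓ normalizer ((conjSub u A : Subgroup G) : Set G)))
            (by have := hcS (conjSub u A); omega)).2 _ huS (conjSub_ne_bot hA0) (ok_of_centric S huS hu hcent)
            rfl _ x hxN (le_inf huS le_normalizer)
            ((conjSub_eq_iff_mem_normalizer.2 hxN).le.trans (le_inf huS le_normalizer))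
        · obtain ⟨m, hm, hmag⟩ := exists_extension S hu hxN
          set U := conjSub u A ⊔ ((S : Subgroup G) ⊓ centralizer ((conjSub u A : Subgroup G) : Set G)) with hU
          have hlt' : Nat.card A < Nat.card U := by
            rw [← card_conjSub u A]
            exact card_lt_of_lt (lt_of_le_of_ne le_sup_left fun he => hcent (le_sup_right.trans he.ge))
          have hUS : U ≤ (S : Subgroup G) := sup_le huS inf_le_left
          refine hagree hmag (hres le_sup_left ((ih (s - Nat.card U)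
            (by have := card_le_of_le hUS; omega)).1 U m hUS ?_ rfl))
          exact (conjSub_eq_iff_mem_normalizer.2 hm).le.trans hUS
      have h3 : Φ (conjSub u A) w⁻¹ := by
        set D := conjSub w ((S : Subgroup G) ⊓ normalizer (B : Set G)) with hD
        have hDc : Nat.card D = Nat.card ↥((S : Subgroup G) ⊓ normalizer (B : Set G)) :=
          card_conjSub _ _
        refine hres (A := D) ?_ ((ih (s - Nat.card D) ?_).1 D w⁻¹ (hwN.trans inf_le_left) ?_ rfl)
        · rw [hD, ← hw]; exact conjSub_mono w (le_inf hgA le_normalizer)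
        · have := hcS B; rw [hB] at this hDc; omega
        · rw [hD, conjSub_conjSub, inv_mul_cancel, conjSub_one]; exact inf_le_left
      have h4 : Φ A (w⁻¹ * (x * u)) := by
        refine htrans (htrans h1 h2) ?_
        rw [← conjSub_conjSub, conjSub_eq_iff_mem_normalizer.2 hxN]
        exact h3
      rwa [hx, inv_mul_cancel_right, inv_mul_cancel_left] at h4
    refine ⟨hP, fun X hX hX0 hok hd => ?_⟩
    obtain ⟨u, hu, huS, huN⟩ := exists_full' S X hX
    have hle := conjSub_norm_le huN
    have hYlt : ∀ Y ≤ (S : Subgroup G), Y ≠ ⊥ → Ok S Y →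
        s - Nat.card ↥((S : Subgroup G) ⊓ normalizer (Y : Set G)) < d →
        LocalAt Φ (S : Subgroup G) Y := fun Y hY hY0 hY' hlt => (ih _ hlt).2 Y hY hY0 hY' rfl
    have hstar : LocalAt Φ (S : Subgroup G) (conjSub u X) := by
      have hc : Nat.card ↥((S : Subgroup G) ⊓ normalizer (X : Set G)) ≤
          Nat.card ↥((S : Subgroup G) ⊓ normalizer ((conjSub u X : Subgroup G) : Set G)) := by
        rw [← card_conjSub u]; exact card_le_of_le hle
      refine hloc _ huS (conjSub_ne_bot hX0) hu (hok u huN) fun Y hY hY0 hY' hlt => hYlt Y hY hY0 hY' ?_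
      have := hcS Y; omega
    intro A n hn hA hnA
    have h1 : Φ A u := hres hA (hP _ u inf_le_left huN hd)
    have hn' : u * n * u⁻¹ ∈ normalizer ((conjSub u X : Subgroup G) : Set G) := by
      rw [← conjSub_normalizer]; exact conj_mem_conjSub hn
    have h2 : Φ (conjSub u A) (u * n * u⁻¹) := hstar _ _ hn' ((conjSub_mono u hA).trans hle) (by
      rw [conjSub_conjSub, inv_mul_cancel_right, ← conjSub_conjSub]
      exact (conjSub_mono u hnA).trans hle)
    have h3 : Φ (conjSub (u * n * u⁻¹) (conjSub u A)) u⁻¹ := by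
      refine hres (A := conjSub u ((S : Subgroup G) ⊓ normalizer (X : Set G))) ?_
        (hP _ u⁻¹ huN ?_ (by rw [card_conjSub]; exact hd))
      · rw [conjSub_conjSub, inv_mul_cancel_right, ← conjSub_conjSub]
        exact conjSub_mono u hnA
      · rw [conjSub_conjSub, inv_mul_cancel, conjSub_one]; exact inf_le_left
    have h4 : Φ A (u⁻¹ * (u * n * u⁻¹ * u)) := by
      refine htrans (htrans h1 h2) ?_
      rwa [← conjSub_conjSub]
    rwa [inv_mul_cancel_right, inv_mul_cancel_left] at h4


section Pair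

variable (W V : Subgroup G → Subgroup G)

omit [Finite G] [Fact p.Prime] in
/-- The two subgroups attached to `Q` inside `N`. -/
def pairSet (N Q : Subgroup G) : Set (Subgroup G) :=
  {N ⊓ normalizer ((W Q : Subgroup G) : Set G), N ⊓ centralizer ((V Q : Subgroup G) : Set G)}

variable {W V}

theorem pair_conj (hW : IsConjugacyFunctor p W) (hV : IsConjugacyFunctor p V) {N T : Subgroup G}
    (hT : IsPGroup p T) {h : G} (hh : h ∈ N) :
    conjSub h (N ⊓ normalizer ((W T : Subgroup G) : Set G)) =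
        N ⊓ normalizer ((W (conjSub h T) : Subgroup G) : Set G) ∧
      conjSub h (N ⊓ centralizer ((V T : Subgroup G) : Set G)) =
        N ⊓ centralizer ((V (conjSub h T) : Subgroup G) : Set G) := by
  refine ⟨by rw [conjSub_inf, conjSub_self_of_mem hh, conjSub_normalizer, functor_conj hW hT], ?_⟩
  rw [conjSub_inf, conjSub_self_of_mem hh, functor_conj hV hT]
  congr 1
  ext y
  constructor
  · rintro ⟨c, hc, rfl⟩
    refine mem_centralizer_iff.2 ?_
    rintro _ ⟨z, hz, rfl⟩
    show h * z * h⁻¹ * (h * c * h⁻¹) = h * c * h⁻¹ * (h * z * h⁻¹)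
    rw [show h * z * h⁻¹ * (h * c * h⁻¹) = h * (z * c) * h⁻¹ by group, mem_centralizer_iff.1 hc z hz]
    group
  · intro hy
    refine ⟨h⁻¹ * y * h, mem_centralizer_iff.2 fun z hz => ?_, show h * (h⁻¹ * y * h) * h⁻¹ = y by group⟩
    have h2 := mem_centralizer_iff.1 hy _ (conj_mem_conjSub (g := h) hz)
    calc z * (h⁻¹ * y * h) = h⁻¹ * (h * z * h⁻¹ * y) * h := by group
      _ = h⁻¹ * (y * (h * z * h⁻¹)) * h := by rw [h2]
      _ = h⁻¹ * y * h * z := by group

theorem pair_ctrl_move (hW : IsConjugacyFunctor p W) (hV : IsConjugacyFunctor p V) {N T R : Subgroup G}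
    (hT : IsPGroup p T) (hTH : T ≤ N) (hTi : ¬ p ∣ T.relIndex N) (hR : IsPGroup p R) (hRH : R ≤ N)
    (hRi : ¬ p ∣ R.relIndex N) (hc : Ctrl T N (pairSet W V N T)) : Ctrl R N (pairSet W V N R) := by
  obtain ⟨h, hh, rfl⟩ := exists_conjSub_eq hT hTH hTi hR hRH hRi
  intro A g hg hA hgA
  have h1 : h⁻¹ * g * h ∈ N := mul_mem (mul_mem (inv_mem hh) hg) hh
  have hA' : conjSub h⁻¹ A ≤ T := by
    have := conjSub_mono h⁻¹ hA
    rwa [conjSub_conjSub, inv_mul_cancel, conjSub_one] at this
  have hgA' : conjSub (h⁻¹ * g * h) (conjSub h⁻¹ A) ≤ T := by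
    have := conjSub_mono h⁻¹ hgA
    simp only [conjSub_conjSub, inv_mul_cancel, conjSub_one] at this
    rwa [conjSub_conjSub, mul_inv_cancel_right]
  have h2 := (hc _ _ h1 hA' hgA').map (MulAut.conj h).toMonoidHom
    (T' := conjSub h T) (𝒩' := pairSet W V N (conjSub h T)) le_rfl (by
      rintro _ (rfl | rfl)
      · exact ⟨_, Or.inl rfl, (pair_conj hW hV hT hh).1.le⟩
      · exact ⟨_, Or.inr rfl, (pair_conj hW hV hT hh).2.le⟩)
  have e1 : (conjSub h⁻¹ A).map (MulAut.conj h).toMonoidHom = A := by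
    show conjSub h (conjSub h⁻¹ A) = A
    rw [conjSub_conjSub, mul_inv_cancel, conjSub_one]
  have e2 : (MulAut.conj h).toMonoidHom (h⁻¹ * g * h) = g := by simp [mul_assoc]
  rwa [e1, e2] at h2

variable (hW : IsConjugacyFunctor p W) (hV : IsConjugacyFunctor p V)
  (hWZ : ∀ H : Subgroup G, IsPGroup p ↥H → H ⊓ centralizer (H : Set G) ≤ W H)
  (hVmono : ∀ H K : Subgroup G, IsPGroup p ↥H → IsPGroup p ↥K → H ≠ ⊥ → K ≠ ⊥ →
    H ⊓ centralizer (H : Set G) ≤ K ⊓ centralizer (K : Set G) → V H ≤ V K)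

include hVmono in
theorem centralizer_functor_le {X : Subgroup G} (hX : X ≤ (S : Subgroup G)) (hX0 : X ≠ ⊥) :
    centralizer ((V ((S : Subgroup G) ⊓ normalizer (X : Set G)) : Subgroup G) : Set G) ≤
      centralizer ((V (S : Subgroup G) : Subgroup G) : Set G) := by
  refine centralizer_le (hVmono _ _ S.2 (isPGroup_norm S X) (fun h => hX0 (le_bot_iff.1 (hX.trans h.le)))
    (fun h => hX0 (le_bot_iff.1 ((le_inf hX le_normalizer).trans h.le))) fun z hz => ?_)
  obtain ⟨hzS, hzC⟩ := mem_inf.1 hz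
  exact mem_inf.2 ⟨mem_inf.2 ⟨hzS, centralizer_le_normalizer _ (centralizer_le hX hzC)⟩,
    centralizer_le inf_le_left hzC⟩

include hW hV hWZ hVmono in
theorem central_fusion_global
    (hloc : ∀ X ≤ (S : Subgroup G), zc S ≤ X → Full p (S : Subgroup G) X → ∃ T : Subgroup G,
      T ≤ normalizer (X : Set G) ∧ IsPGroup p T ∧ ¬ p ∣ T.relIndex (normalizer (X : Set G)) ∧
      Ctrl T (normalizer (X : Set G)) (pairSet W V (normalizer (X : Set G)) T)) :
    Ctrl (S : Subgroup G) ⊤ (pairSet W V ⊤ (S : Subgroup G)) := by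
  refine fun A g _ hA hgA => central_local_global S (Fus (S : Subgroup G) (pairSet W V ⊤ (S : Subgroup G)))
    (fun hBA h => h.restrict hBA) (fun h1 h2 => h1.trans h2) (fun h h' => h'.of_agree h)
    (fun g => Fus.of_centralizes (mem_centralizer_iff.2 fun a ha => by rw [mem_bot.1 ha]; simp))
    ?_ A g hA hgA
  intro X hX hX0 hf hzX ih B n hn hB hnB
  set Q := (S : Subgroup G) ⊓ normalizer (X : Set G) with hQ
  have hQp : IsPGroup p Q := isPGroup_norm S X
  obtain ⟨T, hTN, hT, hTi, hc⟩ := hloc X hX hzX hf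
  refine ((pair_ctrl_move hW hV hT hTN hTi hQp inf_le_right hf hc) B n hn hB hnB).bind hB ?_
  rintro _ (rfl | rfl) m hm C hC hmC
  · rcases eq_or_lt_of_le (inf_le_left : Q ≤ (S : Subgroup G)) with he | hlt
    · rw [show Q = (S : Subgroup G) from he] at hC hmC hm
      exact Fus.of_mem (Or.inl rfl) ⟨mem_top m, (mem_inf.1 hm).2⟩ hmC
    · have hQ0 : Q ≠ ⊥ := fun h => hX0 (le_bot_iff.1 ((le_inf hX le_normalizer).trans h.le))
      have hle : (S : Subgroup G) ⊓ normalizer (Q : Set G) ≤
          (S : Subgroup G) ⊓ normalizer ((W Q : Subgroup G) : Set G) :=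
        inf_le_inf_left _ (normalizer_le_normalizer_functor hW hQp)
      have hQle : Q ≤ (S : Subgroup G) ⊓ normalizer ((W Q : Subgroup G) : Set G) :=
        (le_inf inf_le_left le_normalizer).trans hle
      exact ih (W Q) ((functor_le hW hQp).trans inf_le_left) ((hW Q hQp).2.1 hQ0)
        (ok_functor S hW hWZ hX hf) ((card_lt_of_lt (lt_norm S.2 hlt)).trans_le (card_le_of_le hle))
        C m (mem_inf.1 hm).2 (hC.trans hQle) (hmC.trans hQle)
  · exact Fus.of_mem (Or.inr rfl) ⟨mem_top m, centralizer_functor_le S hVmono hX hX0 (mem_inf.1 hm).2⟩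
      (hmC.trans inf_le_left)

include hW hV hWZ hVmono in
theorem central_transfer_global
    (hloc : ∀ X ≤ (S : Subgroup G), zc S ≤ X → Full p (S : Subgroup G) X → ∃ T : Subgroup G,
      T ≤ normalizer (X : Set G) ∧ IsPGroup p T ∧ ¬ p ∣ T.relIndex (normalizer (X : Set G)) ∧
      ∀ x ∈ T ⊓ ⁅normalizer (X : Set G), normalizer (X : Set G)⁆,
        x ∈ (T ⊓ ⁅normalizer (X : Set G) ⊓ normalizer ((W T : Subgroup G) : Set G),
            normalizer (X : Set G) ⊓ normalizer ((W T : Subgroup G) : Set G)⁆) ⊔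
          (T ⊓ ⁅normalizer (X : Set G) ⊓ centralizer ((V T : Subgroup G) : Set G),
            normalizer (X : Set G) ⊓ centralizer ((V T : Subgroup G) : Set G)⁆)) :
    (S : Subgroup G) ⊓ commutator G ≤
      ((S : Subgroup G) ⊓ ⁅normalizer ((W (S : Subgroup G) : Subgroup G) : Set G),
          normalizer ((W (S : Subgroup G) : Subgroup G) : Set G)⁆) ⊔
        ((S : Subgroup G) ⊓ ⁅centralizer ((V (S : Subgroup G) : Subgroup G) : Set G),
          centralizer ((V (S : Subgroup G) : Subgroup G) : Set G)⁆) := by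
  set R := ((S : Subgroup G) ⊓ ⁅normalizer ((W (S : Subgroup G) : Subgroup G) : Set G),
          normalizer ((W (S : Subgroup G) : Subgroup G) : Set G)⁆) ⊔
        ((S : Subgroup G) ⊓ ⁅centralizer ((V (S : Subgroup G) : Subgroup G) : Set G),
          centralizer ((V (S : Subgroup G) : Subgroup G) : Set G)⁆) with hR
  let Φ : Subgroup G → G → Prop := fun A g => ∀ a ∈ A, a⁻¹ * (g * a * g⁻¹) ∈ R
  have main : ∀ A g, A ≤ (S : Subgroup G) → conjSub g A ≤ (S : Subgroup G) → Φ A g := by
    refine central_local_global S Φ (fun hBA h a ha => h a (hBA ha)) ?_ ?_ ?_ ?_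
    · intro A g h h1 h2 a ha
      have := mul_mem (h1 a ha) (h2 _ (conj_mem_conjSub ha))
      rwa [show a⁻¹ * (g * a * g⁻¹) * ((g * a * g⁻¹)⁻¹ * (h * (g * a * g⁻¹) * h⁻¹)) =
        a⁻¹ * (h * g * a * (h * g)⁻¹) by group] at this
    · intro A g g' hag h a ha
      rw [← hag a ha]; exact h a ha
    · intro g a ha
      rw [mem_bot.1 ha]; simp
    intro X hX hX0 hf hzX ih B n hn hB hnB a ha
    set N := normalizer (X : Set G) with hN
    set Q := (S : Subgroup G) ⊓ N with hQ
    have hQp : IsPGroup p Q := isPGroup_norm S X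
    obtain ⟨T, hTN, hT, hTi, hc⟩ := hloc X hX hzX hf
    obtain ⟨h, hh, hTQ⟩ := exists_conjSub_eq hT hTN hTi hQp inf_le_right hf
    have hmem : a⁻¹ * (n * a * n⁻¹) ∈ Q ⊓ ⁅N, N⁆ := by
      refine mem_inf.2 ⟨mul_mem (inv_mem (hB ha)) (hnB (conj_mem_conjSub ha)), ?_⟩
      rw [show a⁻¹ * (n * a * n⁻¹) = ⁅a⁻¹, n⁆ by simp only [commutatorElement_def]; group]
      exact commutator_mem_commutator (inv_mem (mem_inf.1 (hB ha)).2) hn
    have hcomm : ∀ K : Subgroup G, conjSub h ⁅K, K⁆ = ⁅conjSub h K, conjSub h K⁆ := fun K =>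
      map_commutator K K _
    have hmove := conjSub_mono h (fun x hx => hc x hx : T ⊓ ⁅N, N⁆ ≤ _)
    rw [conjSub_inf, hcomm, conjSub_self_of_mem hh, hTQ, conjSub_sup, conjSub_inf, conjSub_inf, hcomm, hcomm,
      (pair_conj hW hV hT hh).1, (pair_conj hW hV hT hh).2, hTQ] at hmove
    refine (sup_le ?_ ?_ : _ ≤ R) (hmove hmem)
    · rcases eq_or_lt_of_le (inf_le_left : Q ≤ (S : Subgroup G)) with he | hlt
      · rw [show Q = (S : Subgroup G) from he]
        exact (inf_le_inf_left _ (commutator_mono inf_le_right inf_le_right)).trans le_sup_left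
      · have hQ0 : Q ≠ ⊥ := fun h => hX0 (le_bot_iff.1 ((le_inf hX le_normalizer).trans h.le))
        have hQM : Q ≤ N ⊓ normalizer ((W Q : Subgroup G) : Set G) :=
          le_inf inf_le_right (le_normalizer.trans (normalizer_le_normalizer_functor hW hQp))
        have hle : (S : Subgroup G) ⊓ normalizer (Q : Set G) ≤
            (S : Subgroup G) ⊓ normalizer ((W Q : Subgroup G) : Set G) :=
          inf_le_inf_left _ (normalizer_le_normalizer_functor hW hQp)
        have hQle : Q ≤ (S : Subgroup G) ⊓ normalizer ((W Q : Subgroup G) : Set G) :=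
          (le_inf inf_le_left le_normalizer).trans hle
        refine inf_commutator_le hQp hQM (fun hd => hf (hd.trans ?_)) fun b hb m hm hmb => ?_
        · exact Dvd.intro _ (relIndex_mul_relIndex _ _ _ hQM inf_le_left)
        · refine ih (W Q) ((functor_le hW hQp).trans inf_le_left) ((hW Q hQp).2.1 hQ0)
            (ok_functor S hW hWZ hX hf) ((card_lt_of_lt (lt_norm S.2 hlt)).trans_le (card_le_of_le hle))
            (zpowers b) m (mem_inf.1 hm).2 (zpowers_le.2 (hQle hb)) ?_ b (mem_zpowers b)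
          show (zpowers b).map (MulAut.conj m).toMonoidHom ≤ _
          rw [MonoidHom.map_zpowers]
          exact zpowers_le.2 (hQle hmb)
    · exact (inf_le_inf inf_le_left (commutator_mono (inf_le_right.trans (centralizer_functor_le S hVmono hX hX0))
        (inf_le_right.trans (centralizer_functor_le S hVmono hX hX0)))).trans le_sup_right
  rw [commutator_def]
  refine inf_commutator_le S.2 le_top (relIndex_sylow_not_dvd S le_top) fun a ha m _ hma => ?_
  refine main (zpowers a) m (zpowers_le.2 ha) ?_ a (mem_zpowers a)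
  show (zpowers a).map (MulAut.conj m).toMonoidHom ≤ _
  rw [MonoidHom.map_zpowers]
  exact zpowers_le.2 hma

end Pair

end CfsgLib.Techniques.Functor
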