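import Cfsg.Agent.Lib.Techniques.Functor.Reach
import Cfsg.Agent.Lib.Fusion.SylowTools

/-!
Sylow subgroups of normalizers of subgroups of a Sylow `p`-subgroup, and the focal criterion in
subgroup form.
-/

namespace CfsgLib.Techniques.Functor

open Subgroup Cfsg
open scoped commutatorElement
open CfsgLib.Fusion (conjSub mem_conjSub conjSub_conjSub conjSub_one conjSub_mono card_conjSub
  conjSub_eq_iff_mem_normalizer conj_mem_conjSub)

variable {G : Type*} [Group G]

/-- `N_S(X)` is Sylow in `N(X)`. -/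
def Full (p : ℕ) (S X : Subgroup G) : Prop :=
  ¬ p ∣ (S ⊓ normalizer (X : Set G)).relIndex (normalizer (X : Set G))

theorem conjSub_ne_bot {u : G} {X : Subgroup G} (h : X ≠ ⊥) : conjSub u X ≠ ⊥ :=
  fun he => h ((map_eq_bot_iff_of_injective X (MulAut.conj u).injective).1 he)

theorem conjSub_inf (u : G) (X Y : Subgroup G) : conjSub u (X ⊓ Y) = conjSub u X ⊓ conjSub u Y :=
  map_inf X Y _ (MulAut.conj u).injective

theorem conjSub_sup (u : G) (X Y : Subgroup G) : conjSub u (X ⊔ Y) = conjSub u X ⊔ conjSub u Y :=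
  map_sup X Y _

theorem conjSub_self_of_mem {K : Subgroup G} {u : G} (hu : u ∈ K) : conjSub u K = K :=
  conjSub_eq_iff_mem_normalizer.2 (le_normalizer hu)

theorem conjSub_normal (X : Subgroup G) [X.Normal] (u : G) : conjSub u X = X :=
  conjSub_eq_iff_mem_normalizer.2 (by rw [normalizer_eq_top]; exact mem_top u)

theorem conjSub_le_conjSub_iff {u : G} {X Y : Subgroup G} : conjSub u X ≤ conjSub u Y ↔ X ≤ Y :=
  map_le_map_iff_of_injective (MulAut.conj u).injective

theorem conjSub_normalizer (u : G) (X : Subgroup G) :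
    conjSub u (normalizer (X : Set G)) = normalizer ((conjSub u X : Subgroup G) : Set G) := by
  ext y
  rw [mem_conjSub, mem_normalizer_iff, mem_normalizer_iff]
  constructor
  · intro h x
    rw [mem_conjSub, mem_conjSub, h (u⁻¹ * x * u)]
    simp only [mul_inv_rev, inv_inv, mul_assoc, mul_inv_cancel_left]
  · intro h x
    have h' := h (u * x * u⁻¹)
    rw [mem_conjSub, mem_conjSub] at h'
    simp only [mul_assoc, inv_mul_cancel_left, inv_mul_cancel, mul_one] at h'
    rw [h']
    simp only [mul_inv_rev, inv_inv, mul_assoc]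

theorem conjSub_norm_le {u : G} {S X : Subgroup G} (h : conjSub u (S ⊓ normalizer (X : Set G)) ≤ S) :
    conjSub u (S ⊓ normalizer (X : Set G)) ≤ S ⊓ normalizer ((conjSub u X : Subgroup G) : Set G) := by
  refine le_inf h ?_
  rw [← conjSub_normalizer]
  exact conjSub_mono u inf_le_right

theorem lt_norm [Finite G] {p : ℕ} [Fact p.Prime] {S X : Subgroup G} (hS : IsPGroup p S) (h : X < S) :
    X < S ⊓ normalizer (X : Set G) :=
  CfsgLib.Fusion.lt_normalizerIn hS h

/-- Sylow subgroups of a subgroup are conjugate in it. -/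
theorem exists_conjSub_eq [Finite G] {p : ℕ} [Fact p.Prime] {H T R : Subgroup G} (hT : IsPGroup p T)
    (hTH : T ≤ H) (hTi : ¬ p ∣ T.relIndex H) (hR : IsPGroup p R) (hRH : R ≤ H)
    (hRi : ¬ p ∣ R.relIndex H) : ∃ h ∈ H, conjSub h T = R := by
  obtain ⟨h, hh, hm⟩ := CfsgLib.Fusion.exists_conj_mem_of_le hT hR hTH hRH hRi
  have hle : conjSub h T ≤ R := by
    rintro _ ⟨x, hx, rfl⟩; exact hm x hx
  refine ⟨h, hh, CfsgLib.Fusion.eq_of_le_of_not_dvd (N := H) hR hle hRH ?_⟩
  have h2 := CfsgLib.Fusion.not_dvd_relIndex_map (MulAut.conj h).toMonoidHom hTH hTi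
  rwa [show H.map (MulAut.conj h).toMonoidHom = H from conjSub_self_of_mem hh] at h2

theorem card_lt_of_lt [Finite G] {X Y : Subgroup G} (h : X < Y) : Nat.card X < Nat.card Y :=
  lt_of_le_of_ne (card_le_of_le h.le) fun he => h.ne (eq_of_le_of_card_ge h.le he.ge)

variable [Finite G] {p : ℕ} [Fact p.Prime] (S : Sylow p G)

theorem isPGroup_norm (X : Subgroup G) :
    IsPGroup p ↥((S : Subgroup G) ⊓ normalizer (X : Set G)) :=
  S.2.to_le inf_le_left

theorem relIndex_sylow_not_dvd {H : Subgroup G} (h : (S : Subgroup G) ≤ H) :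
    ¬ p ∣ (S : Subgroup G).relIndex H :=
  fun hd => S.not_dvd_index (hd.trans (Dvd.intro _ (relIndex_mul_index h)))

theorem full_of_le {X : Subgroup G} (h : (S : Subgroup G) ≤ normalizer (X : Set G)) :
    Full p (S : Subgroup G) X := by
  unfold Full
  rw [inf_eq_left.2 h]
  exact relIndex_sylow_not_dvd S h

/-- Conjugate `N_S(X)` inside a fully normalized conjugate. -/
theorem exists_move {X : Subgroup G} {u : G} (hfull : Full p (S : Subgroup G) (conjSub u X)) :
    ∃ w, conjSub w X = conjSub u X ∧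
      conjSub w ((S : Subgroup G) ⊓ normalizer (X : Set G)) ≤
        (S : Subgroup G) ⊓ normalizer ((conjSub u X : Subgroup G) : Set G) := by
  obtain ⟨h, hh, hm⟩ := CfsgLib.Fusion.exists_conj_mem_of_le
    ((isPGroup_norm S X).map (MulAut.conj u).toMonoidHom) (isPGroup_norm S (conjSub u X))
    (show conjSub u ((S : Subgroup G) ⊓ normalizer (X : Set G)) ≤
        normalizer ((conjSub u X : Subgroup G) : Set G) by
      rw [← conjSub_normalizer]; exact conjSub_mono u inf_le_right) inf_le_right hfull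
  refine ⟨h * u, ?_, ?_⟩
  · rw [← conjSub_conjSub, conjSub_eq_iff_mem_normalizer.2 hh]
  · rw [← conjSub_conjSub]
    rintro _ ⟨x, hx, rfl⟩
    exact hm x hx

/-- Every subgroup of `S` has a fully normalized conjugate in `S`, carrying `N_S(X)` into `S`. -/
theorem exists_full {X : Subgroup G} (hX : X ≤ (S : Subgroup G)) :
    ∃ u, conjSub u X ≤ (S : Subgroup G) ∧ Full p (S : Subgroup G) (conjSub u X) ∧
      conjSub u ((S : Subgroup G) ⊓ normalizer (X : Set G)) ≤ (S : Subgroup G) := by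
  classical
  obtain ⟨⟨u, hu⟩, -, hmax⟩ := Set.exists_max_image
    (Set.univ : Set {u : G // conjSub u X ≤ (S : Subgroup G)})
    (fun u => Nat.card ↥((S : Subgroup G) ⊓ normalizer ((conjSub (u : G) X : Subgroup G) : Set G)))
    Set.finite_univ ⟨⟨1, by rwa [conjSub_one]⟩, trivial⟩
  set X1 := conjSub u X with hX1
  suffices hfull : Full p (S : Subgroup G) X1 by
    obtain ⟨w, hw, hwle⟩ := exists_move S hfull
    exact ⟨w, hw ▸ hu, hw ▸ hfull, hwle.trans inf_le_left⟩
  obtain ⟨R, hR⟩ := ((isPGroup_norm S X1).comap_subtype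
    (K := normalizer (X1 : Set G))).exists_le_sylow
  set R' := (R : Subgroup ↥(normalizer (X1 : Set G))).map (normalizer (X1 : Set G)).subtype with hR'
  have hNR : (S : Subgroup G) ⊓ normalizer (X1 : Set G) ≤ R' := fun x hx =>
    ⟨⟨x, hx.2⟩, hR (mem_subgroupOf.2 hx), rfl⟩
  have hR'N : R' ≤ normalizer (X1 : Set G) := map_subtype_le _
  have hX1R : X1 ≤ R' := (le_inf hu le_normalizer).trans hNR
  obtain ⟨g, hg⟩ := CfsgLib.Fusion.exists_conj_mem (U := R') (R.2.map _) S.2 S.not_dvd_index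
  have hgR : conjSub g R' ≤ (S : Subgroup G) := by
    rintro _ ⟨x, hx, rfl⟩; exact hg x hx
  have hle : conjSub g R' ≤ (S : Subgroup G) ⊓ normalizer ((conjSub (g * u) X : Subgroup G) : Set G) := by
    refine le_inf hgR ?_
    rw [← conjSub_conjSub, ← conjSub_normalizer, ← hX1]
    exact conjSub_mono g hR'N
  have hcard := hmax ⟨g * u, by
    rw [← conjSub_conjSub]; exact (conjSub_mono g hX1R).trans hgR⟩ trivial
  have heq : (S : Subgroup G) ⊓ normalizer (X1 : Set G) = R' := by
    refine eq_of_le_of_card_ge hNR ?_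
    calc Nat.card ↥R' = Nat.card ↥(conjSub g R') := (card_conjSub g R').symm
      _ ≤ _ := card_le_of_le hle
      _ ≤ _ := hcard
  unfold Full
  rw [heq]
  show ¬ p ∣ (R'.subgroupOf (normalizer (X1 : Set G))).index
  rw [show R'.subgroupOf (normalizer (X1 : Set G)) = (R : Subgroup ↥(normalizer (X1 : Set G))) from
    comap_map_eq_self_of_injective Subtype.coe_injective _]
  exact R.not_dvd_index

omit S in
/-- The focal subgroup criterion inside a subgroup. -/
theorem inf_commutator_le {Q M R : Subgroup G} (hQ : IsPGroup p Q) (hQM : Q ≤ M)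
    (hi : ¬ p ∣ Q.relIndex M)
    (h : ∀ a ∈ Q, ∀ m ∈ M, m * a * m⁻¹ ∈ Q → a⁻¹ * (m * a * m⁻¹) ∈ R) :
    Q ⊓ ⁅M, M⁆ ≤ R := by
  let P : Sylow p M := (hQ.comap_subtype (K := M)).toSylow hi
  have hP : (P : Subgroup M) = Q.subgroupOf M := IsPGroup.toSylow_coe _ _
  rintro x ⟨hxQ, hxM⟩
  rw [← map_subtype_commutator] at hxM
  obtain ⟨y, hy, rfl⟩ := hxM
  have hfoc : commutator M ⊓ (P : Subgroup M) ≤ R.comap M.subtype := by
    rw [commutator_inf_eq_focalSubgroup, focalSubgroup_def, closure_le]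
    rintro _ ⟨hmem, a, ha, u, rfl⟩
    rw [SetLike.mem_coe, mem_comap]
    rw [hP, mem_subgroupOf] at hmem ha
    simp only [commutatorElement_def, Subgroup.coe_mul, Subgroup.coe_inv] at hmem
    have hm : (u : G) * (a : G)⁻¹ * (u : G)⁻¹ ∈ Q := by
      have := mul_mem (inv_mem ha) hmem
      rwa [show (a : G)⁻¹ * ((a : G) * u * (a : G)⁻¹ * (u : G)⁻¹) = u * (a : G)⁻¹ * (u : G)⁻¹ by
        group] at this
    have := h _ (inv_mem ha) u u.2 hm
    simpa [commutatorElement_def, mul_assoc] using this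
  exact hfoc ⟨hy, by rw [hP]; exact hxQ⟩

end CfsgLib.Techniques.Functor
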