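import Cfsg.Agent.Lib.Techniques.Functor.SectionFusion

/-!
The section forms of control of strong fusion.
-/

namespace CfsgLib.Techniques.Functor

open Subgroup Cfsg
open CfsgLib.Fusion (conjSub mem_conjSub conjSub_conjSub conjSub_one conjSub_mono card_conjSub
  conjSub_eq_iff_mem_normalizer conj_mem_conjSub)

universe u

variable {p : ℕ} [Fact p.Prime] {𝓦 : Set (∀ (Q : Type u) [Group Q], Subgroup Q)}

theorem ctrlAll_congr {G H : Type u} [Group G] [Group H] [Finite G] [Finite H] (e : G ≃* H)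
    (h𝓦 : ∀ W ∈ 𝓦, IsCharPFunctor.{u} p W) (h : CtrlAll p 𝓦 G) : CtrlAll p 𝓦 H := by
  intro S A g _ hA hgA
  let S' : Sylow p G := S.mapSurjective (f := e.symm.toMonoidHom) e.symm.surjective
  have hS' : (S' : Subgroup G) = (S : Subgroup H).map e.symm.toMonoidHom :=
    Sylow.coe_mapSurjective _ _
  have hback : ∀ X : Subgroup H, (X.map e.symm.toMonoidHom).map e.toMonoidHom = X := fun X => by
    rw [map_map, show e.toMonoidHom.comp e.symm.toMonoidHom = MonoidHom.id H from
      MonoidHom.ext e.apply_symm_apply, map_id]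
  have h1 := (h S' (A.map e.symm.toMonoidHom) (e.symm g) (mem_top _)
    (by rw [hS']; exact map_mono hA) (by
      rw [hS']
      rintro _ ⟨_, ⟨a, ha, rfl⟩, rfl⟩
      exact ⟨_, hgA (conj_mem_conjSub ha), by simp⟩)).map e.toMonoidHom
    (T' := (S : Subgroup H)) (𝒩' := Nfam 𝓦 (S : Subgroup H)) (by rw [hS', hback]) (by
      rintro _ ⟨W, hW, rfl⟩
      refine ⟨_, ⟨W, hW, rfl⟩, ?_⟩
      have h2 := map_normalizer_induced (h𝓦 W hW) e.toMonoidHom S'.2
        fun x _ hx => e.injective (hx.trans (map_one e).symm)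
      rwa [show (S' : Subgroup G).map e.toMonoidHom = (S : Subgroup H) by rw [hS', hback]] at h2)
  rw [hback] at h1
  simpa using h1

/-- The hypothesis on constrained sections, in the form of the frozen statements. -/
theorem constrained_hyp {G : Type u} [Group G] [Finite G] (h𝓦 : ∀ W ∈ 𝓦, IsCharPFunctor.{u} p W)
    (hloc : ∀ (K R : Subgroup G) [hR : (R.subgroupOf K).Normal],
      centralizer ((pCore p (↥K ⧸ R.subgroupOf K) : Subgroup (↥K ⧸ R.subgroupOf K)) :
        Set (↥K ⧸ R.subgroupOf K)) ≤ pCore p (↥K ⧸ R.subgroupOf K) →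
      CtrlAll p 𝓦 (↥K ⧸ R.subgroupOf K))
    (Δ : Type u) [Group Δ] [Finite Δ] (hΔ : IsSect Δ G)
    (hc : centralizer ((pCore p Δ : Subgroup Δ) : Set Δ) ≤ pCore p Δ) : CtrlAll p 𝓦 Δ := by
  obtain ⟨K, R, hR, ⟨e⟩⟩ := hΔ.exists_quotient
  refine ctrlAll_congr e h𝓦 (hloc K R ?_)
  intro x hx
  have hmap := CfsgLib.Cores.map_pCore_equiv (p := p) e
  have h1 : e x ∈ centralizer ((pCore p Δ : Subgroup Δ) : Set Δ) := by
    refine mem_centralizer_iff.2 fun y hy => ?_
    rw [← hmap] at hy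
    obtain ⟨z, hz, rfl⟩ := hy
    show e z * e x = e x * e z
    rw [← map_mul, ← map_mul, mem_centralizer_iff.1 hx z hz]
  have h2 := hc h1
  rw [← hmap] at h2
  obtain ⟨z, hz, hzx⟩ := h2
  rwa [← e.injective hzx]

theorem controlsStrongFusion_of_ctrlAll {G : Type u} [Group G] [Finite G]
    {W : ∀ (Q : Type u) [Group Q], Subgroup Q}
    (h : CtrlAll p ({W} : Set (∀ (Q : Type u) [Group Q], Subgroup Q)) G) (T : Sylow p G) :
    ControlsStrongFusion p (inducedFunctor (G := G) W (T : Subgroup G)) := by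
  refine ⟨T, induced_le _, fun A hA => ⟨hA, fun g hg => ?_⟩⟩
  have h1 := h T (closure A) g (mem_top g) ((closure_le _).2 hA) (image_subset_iff.1 hg)
  rw [show Nfam ({W} : Set (∀ (Q : Type u) [Group Q], Subgroup Q)) (T : Subgroup G) =
    {normalizer ((inducedFunctor W (T : Subgroup G) : Subgroup G) : Set G)} from
      Set.image_singleton] at h1
  obtain ⟨x, hx, hxa⟩ := h1.exists_mem
  exact ⟨x, hx, fun a ha => (hxa a (subset_closure ha)).symm⟩

end CfsgLib.Techniques.Functor
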