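import Cfsg.Agent.Lib.Techniques.Functor.SylowNorm

/-!
Towers and well-placed subgroups.
-/

namespace CfsgLib.Techniques.Functor

open Subgroup Cfsg
open CfsgLib.Fusion (conjSub mem_conjSub conjSub_conjSub conjSub_one conjSub_mono card_conjSub
  conjSub_eq_iff_mem_normalizer conj_mem_conjSub)

variable {G : Type*} [Group G] [Finite G] {p : ℕ} [Fact p.Prime] (S : Sylow p G)
  {W : Subgroup G → Subgroup G}

omit [Finite G] [Fact p.Prime] in
theorem functor_le (hW : IsConjugacyFunctor p W) {P : Subgroup G} (hP : IsPGroup p P) : W P ≤ P :=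
  (hW P hP).1

omit [Finite G] [Fact p.Prime] in
theorem functor_conj (hW : IsConjugacyFunctor p W) {P : Subgroup G} (hP : IsPGroup p P) (g : G) :
    W (conjSub g P) = conjSub g (W P) :=
  (hW P hP).2.2 g

omit [Finite G] [Fact p.Prime] in
theorem normalizer_le_normalizer_functor (hW : IsConjugacyFunctor p W) {P : Subgroup G}
    (hP : IsPGroup p P) : normalizer (P : Set G) ≤ normalizer ((W P : Subgroup G) : Set G) := by
  intro g hg
  rw [← conjSub_eq_iff_mem_normalizer, ← functor_conj hW hP, conjSub_eq_iff_mem_normalizer.2 hg]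

theorem tower_le (hW : IsConjugacyFunctor p W) {T : Subgroup G} (hT : T ≤ (S : Subgroup G)) :
    ∀ i, functorTower W (S : Subgroup G) T i ≤ (S : Subgroup G)
  | 0 => hT
  | i + 1 => (functor_le hW (isPGroup_norm S (functorTower W (S : Subgroup G) T i))).trans inf_le_left

theorem norm_le_norm_succ (hW : IsConjugacyFunctor p W) (T : Subgroup G) (i : ℕ) :
    (S : Subgroup G) ⊓ normalizer ((functorTower W (S : Subgroup G) T i : Subgroup G) : Set G) ≤
      (S : Subgroup G) ⊓
        normalizer ((functorTower W (S : Subgroup G) T (i + 1) : Subgroup G) : Set G) :=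
  le_inf inf_le_left
    (le_normalizer.trans (normalizer_le_normalizer_functor hW (isPGroup_norm S _)))

theorem norm_monotone (hW : IsConjugacyFunctor p W) (T : Subgroup G) : Monotone fun i =>
    (S : Subgroup G) ⊓ normalizer ((functorTower W (S : Subgroup G) T i : Subgroup G) : Set G) :=
  monotone_nat_of_le_succ (norm_le_norm_succ S hW T)

theorem norm_le_norm_tower (hW : IsConjugacyFunctor p W) (T : Subgroup G) {i j : ℕ} (h : i ≤ j) :
    (S : Subgroup G) ⊓ normalizer ((functorTower W (S : Subgroup G) T i : Subgroup G) : Set G) ≤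
      (S : Subgroup G) ⊓ normalizer ((functorTower W (S : Subgroup G) T j : Subgroup G) : Set G) :=
  norm_monotone S hW T h

theorem norm_zero_le_tower (hW : IsConjugacyFunctor p W) (T : Subgroup G) (j : ℕ) :
    (S : Subgroup G) ⊓ normalizer (T : Set G) ≤
      (S : Subgroup G) ⊓ normalizer ((functorTower W (S : Subgroup G) T j : Subgroup G) : Set G) := by
  have h := norm_le_norm_tower S hW T (Nat.zero_le j)
  simpa only [functorTower] using h

/-- The normalizers along the tower stabilise after at most `|S|` steps. -/
theorem norm_stable (hW : IsConjugacyFunctor p W) (T : Subgroup G) :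
    ∃ i, i < Nat.card ↥(S : Subgroup G) + 1 ∧ ∀ m, i ≤ m →
      (S : Subgroup G) ⊓ normalizer ((functorTower W (S : Subgroup G) T m : Subgroup G) : Set G) =
      (S : Subgroup G) ⊓ normalizer ((functorTower W (S : Subgroup G) T i : Subgroup G) : Set G) := by
  set a := fun i => (S : Subgroup G) ⊓
    normalizer ((functorTower W (S : Subgroup G) T i : Subgroup G) : Set G) with ha
  obtain ⟨i, hi, heq⟩ : ∃ i, i < Nat.card ↥(S : Subgroup G) + 1 ∧ a (i + 1) = a i := by
    by_contra hc
    push Not at hc
    have hgrow : ∀ i, i ≤ Nat.card ↥(S : Subgroup G) + 1 → i < Nat.card ↥(a i) + 1 := by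
      intro i
      induction i with
      | zero => intro _; omega
      | succ i ih =>
        intro hi
        have hlt : a i < a (i + 1) :=
          lt_of_le_of_ne (norm_le_norm_succ S hW T i) (hc i (by omega)).symm
        have := card_lt_of_lt hlt
        have := ih (by omega)
        omega
    have h1 := hgrow (Nat.card ↥(S : Subgroup G) + 1) le_rfl
    have h2 : Nat.card ↥(a (Nat.card ↥(S : Subgroup G) + 1)) ≤ Nat.card ↥(S : Subgroup G) :=
      card_le_of_le inf_le_left
    omega
  refine ⟨i, hi, fun m hm => ?_⟩
  have key : ∀ k, a (i + k + 1) = a (i + k) ∧ a (i + k) = a i := by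
    intro k
    induction k with
    | zero => exact ⟨heq, rfl⟩
    | succ k ih =>
      refine ⟨?_, ?_⟩
      · calc a (i + k + 1 + 1)
            = (S : Subgroup G) ⊓ normalizer ((W (a (i + k + 1)) : Subgroup G) : Set G) := rfl
          _ = (S : Subgroup G) ⊓ normalizer ((W (a (i + k)) : Subgroup G) : Set G) := by rw [ih.1]
          _ = a (i + k + 1) := rfl
      · show a (i + k + 1) = a i
        rw [ih.1, ih.2]
  obtain ⟨k, rfl⟩ := Nat.exists_eq_add_of_le hm
  exact (key k).2

theorem wellPlaced_of_le (hW : IsConjugacyFunctor p W) {T : Subgroup G} (hT : T ≤ (S : Subgroup G))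
    (hn : (S : Subgroup G) ≤ normalizer (T : Set G)) : IsWellPlaced p W (S : Subgroup G) T := by
  refine ⟨hT, fun i => full_of_le S ?_⟩
  induction i with
  | zero => exact hn
  | succ i ih =>
    show _ ≤ normalizer ((W _ : Subgroup G) : Set G)
    rw [inf_eq_left.2 ih]
    exact le_normalizer.trans (normalizer_le_normalizer_functor hW S.2)

/-- Every subgroup of `S` has a well-placed conjugate, carrying `N_S(T)` into `S`. -/
theorem exists_wellPlaced (hW : IsConjugacyFunctor p W) {T : Subgroup G}
    (hT : T ≤ (S : Subgroup G)) :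
    ∃ u, IsWellPlaced p W (S : Subgroup G) (conjSub u T) ∧
      conjSub u ((S : Subgroup G) ⊓ normalizer (T : Set G)) ≤ (S : Subgroup G) := by
  have step : ∀ n, ∃ u, conjSub u T ≤ (S : Subgroup G) ∧
      conjSub u ((S : Subgroup G) ⊓ normalizer (T : Set G)) ≤ (S : Subgroup G) ∧
      ∀ j < n, Full p (S : Subgroup G) (functorTower W (S : Subgroup G) (conjSub u T) j) := by
    intro n
    induction n with
    | zero => exact ⟨1, by rwa [conjSub_one], by rw [conjSub_one]; exact inf_le_left,
        fun j hj => absurd hj (Nat.not_lt_zero j)⟩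
    | succ n ih =>
      obtain ⟨u, hu1, hu2, hu3⟩ := ih
      set T1 := conjSub u T with hT1
      obtain ⟨v, hv1, hv2, hv3⟩ := exists_full S (tower_le S hW hu1 n)
      have hmove : ∀ j, j < n → conjSub v ((S : Subgroup G) ⊓
          normalizer ((functorTower W (S : Subgroup G) T1 j : Subgroup G) : Set G)) =
          (S : Subgroup G) ⊓
            normalizer ((conjSub v (functorTower W (S : Subgroup G) T1 j) : Subgroup G) : Set G) ∧
          Full p (S : Subgroup G) (conjSub v (functorTower W (S : Subgroup G) T1 j)) := by
        intro j hj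
        have hle := conjSub_norm_le ((conjSub_mono v (norm_le_norm_tower S hW T1 hj.le)).trans hv3)
        have hnd : ¬ p ∣ (conjSub v ((S : Subgroup G) ⊓
            normalizer ((functorTower W (S : Subgroup G) T1 j : Subgroup G) : Set G))).relIndex
            (normalizer ((conjSub v (functorTower W (S : Subgroup G) T1 j) : Subgroup G) : Set G)) := by
          have := CfsgLib.Fusion.not_dvd_relIndex_map (MulAut.conj v).toMonoidHom inf_le_right
            (hu3 j hj)
          rw [← conjSub_normalizer]
          exact this
        have heq := CfsgLib.Fusion.eq_of_le_of_not_dvd (isPGroup_norm S _) hle inf_le_right hnd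
        exact ⟨heq, by unfold Full; rw [← heq]; exact hnd⟩
      have htow : ∀ j, j ≤ n → functorTower W (S : Subgroup G) (conjSub v T1) j =
          conjSub v (functorTower W (S : Subgroup G) T1 j) := by
        intro j hj
        induction j with
        | zero => rfl
        | succ j ihj =>
          show W _ = conjSub v (W _)
          rw [ihj (by omega), ← (hmove j (by omega)).1, functor_conj hW (isPGroup_norm S _)]
      have hN1 : conjSub u ((S : Subgroup G) ⊓ normalizer (T : Set G)) ≤
          (S : Subgroup G) ⊓
            normalizer ((functorTower W (S : Subgroup G) T1 n : Subgroup G) : Set G) :=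
        (conjSub_norm_le hu2).trans (norm_zero_le_tower S hW T1 n)
      refine ⟨v * u, ?_, ?_, fun j hj => ?_⟩
      · rw [← conjSub_conjSub, ← hT1]
        exact (conjSub_mono v ((le_inf hu1 le_normalizer :
          T1 ≤ (S : Subgroup G) ⊓ normalizer (T1 : Set G)).trans
          (norm_zero_le_tower S hW T1 n))).trans hv3
      · rw [← conjSub_conjSub]
        exact (conjSub_mono v hN1).trans hv3
      · rw [← conjSub_conjSub, ← hT1, htow j (by omega)]
        rcases (Nat.lt_succ_iff_lt_or_eq.1 hj) with h | rfl
        · exact (hmove j h).2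
        · exact hv2
  obtain ⟨u, hu1, hu2, hu3⟩ := step (Nat.card ↥(S : Subgroup G) + 2)
  refine ⟨u, ⟨hu1, fun m => ?_⟩, hu2⟩
  by_cases hm : m < Nat.card ↥(S : Subgroup G) + 2
  · exact hu3 m hm
  obtain ⟨i, hi, hst⟩ := norm_stable S hW (conjSub u T)
  obtain ⟨m', rfl⟩ : ∃ m', m = m' + 1 := ⟨m - 1, by omega⟩
  have : functorTower W (S : Subgroup G) (conjSub u T) (m' + 1) =
      functorTower W (S : Subgroup G) (conjSub u T) (i + 1) := by
    simp only [functorTower]
    rw [hst m' (by omega)]
  rw [this]
  exact hu3 (i + 1) (by omega)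

end CfsgLib.Techniques.Functor
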