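import Cfsg.Agent.Lib.Techniques.Functor.LocalGlobal
import Cfsg.Agent.Lib.Techniques.Functor.WellPlaced

/-!
Local-to-global control of strong fusion and of transfer by a set of conjugacy functors.
-/

namespace CfsgLib.Techniques.Functor

open Subgroup Cfsg
open scoped commutatorElement
open CfsgLib.Fusion (conjSub mem_conjSub conjSub_conjSub conjSub_one conjSub_mono card_conjSub
  conjSub_eq_iff_mem_normalizer conj_mem_conjSub)

variable {G : Type*} [Group G] {p : ℕ}

/-- The subgroups `N_H(W T)`, `W ∈ 𝓦`. -/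
def NSet (H : Subgroup G) (𝓦 : Set (Subgroup G → Subgroup G)) (T : Subgroup G) : Set (Subgroup G) :=
  (fun W => H ⊓ normalizer ((W T : Subgroup G) : Set G)) '' 𝓦

theorem NSet_le {H T : Subgroup G} {𝓦 : Set (Subgroup G → Subgroup G)} :
    ∀ K ∈ NSet H 𝓦 T, K ≤ H := by
  rintro _ ⟨W, -, rfl⟩; exact inf_le_left

/-- Containing one Sylow subgroup's data, the transfer target of a set of functors. -/
def transferTarget (H : Subgroup G) (𝓦 : Set (Subgroup G → Subgroup G)) (T : Subgroup G) : Subgroup G :=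
  ⨆ W ∈ 𝓦, T ⊓ ⁅H ⊓ normalizer ((W T : Subgroup G) : Set G), H ⊓ normalizer ((W T : Subgroup G) : Set G)⁆

variable [Finite G] [Fact p.Prime] {𝓦 : Set (Subgroup G → Subgroup G)}
  (h𝓦 : ∀ W ∈ 𝓦, IsConjugacyFunctor p W)

include h𝓦 in
theorem conj_member {H T : Subgroup G} (hT : IsPGroup p T) {h : G} (hh : h ∈ H)
    {W : Subgroup G → Subgroup G} (hW : W ∈ 𝓦) :
    conjSub h (H ⊓ normalizer ((W T : Subgroup G) : Set G)) =
      H ⊓ normalizer ((W (conjSub h T) : Subgroup G) : Set G) := by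
  rw [conjSub_inf, conjSub_self_of_mem hh, conjSub_normalizer, functor_conj (h𝓦 W hW) hT]

include h𝓦 in
theorem ctrl_move {H T R : Subgroup G} (hT : IsPGroup p T) (hTH : T ≤ H)
    (hTi : ¬ p ∣ T.relIndex H) (hR : IsPGroup p R) (hRH : R ≤ H) (hRi : ¬ p ∣ R.relIndex H)
    (hc : Ctrl T H (NSet H 𝓦 T)) : Ctrl R H (NSet H 𝓦 R) := by
  obtain ⟨h, hh, rfl⟩ := exists_conjSub_eq hT hTH hTi hR hRH hRi
  intro A g hg hA hgA
  have h1 : h⁻¹ * g * h ∈ H := mul_mem (mul_mem (inv_mem hh) hg) hh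
  have hA' : conjSub h⁻¹ A ≤ T := by
    have := conjSub_mono h⁻¹ hA
    rwa [conjSub_conjSub, inv_mul_cancel, conjSub_one] at this
  have hgA' : conjSub (h⁻¹ * g * h) (conjSub h⁻¹ A) ≤ T := by
    have := conjSub_mono h⁻¹ hgA
    simp only [conjSub_conjSub, inv_mul_cancel, conjSub_one] at this
    rwa [conjSub_conjSub, mul_inv_cancel_right]
  have h2 := (hc _ _ h1 hA' hgA').map (MulAut.conj h).toMonoidHom
    (T' := conjSub h T) (𝒩' := NSet H 𝓦 (conjSub h T)) le_rfl (by
      rintro _ ⟨W, hW, rfl⟩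
      exact ⟨_, ⟨W, hW, rfl⟩, (conj_member h𝓦 hT hh hW).le⟩)
  have e1 : (conjSub h⁻¹ A).map (MulAut.conj h).toMonoidHom = A := by
    show conjSub h (conjSub h⁻¹ A) = A
    rw [conjSub_conjSub, mul_inv_cancel, conjSub_one]
  have e2 : (MulAut.conj h).toMonoidHom (h⁻¹ * g * h) = g := by simp [mul_assoc]
  rwa [e1, e2] at h2

include h𝓦 in
theorem family_ctrl_at {H R : Subgroup G} (hc : FamilyControlsStrongFusionIn p 𝓦 H)
    (hR : IsPGroup p R) (hRH : R ≤ H) (hRi : ¬ p ∣ R.relIndex H) : Ctrl R H (NSet H 𝓦 R) := by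
  obtain ⟨T, hTH, hT, hTi, hc⟩ := (family_iff H 𝓦 p).1 hc
  exact ctrl_move h𝓦 hT hTH hTi hR hRH hRi hc

include h𝓦 in
theorem family_transfer_at {H R : Subgroup G} (hc : FamilyControlsTransferIn p 𝓦 H)
    (hR : IsPGroup p R) (hRH : R ≤ H) (hRi : ¬ p ∣ R.relIndex H) :
    R ⊓ ⁅H, H⁆ = transferTarget H 𝓦 R := by
  obtain ⟨T, hTH, hT, hTi, heq⟩ := hc
  obtain ⟨h, hh, rfl⟩ := exists_conjSub_eq hT hTH hTi hR hRH hRi
  have hcomm : ∀ K : Subgroup G, conjSub h ⁅K, K⁆ = ⁅conjSub h K, conjSub h K⁆ := fun K =>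
    map_commutator K K _
  calc conjSub h T ⊓ ⁅H, H⁆ = conjSub h (T ⊓ ⁅H, H⁆) := by
        rw [conjSub_inf, hcomm, conjSub_self_of_mem hh]
    _ = ⨆ W ∈ 𝓦, conjSub h (T ⊓ ⁅H ⊓ normalizer ((W T : Subgroup G) : Set G),
          H ⊓ normalizer ((W T : Subgroup G) : Set G)⁆) := by
        rw [heq, conjSub, Subgroup.map_iSup]
        simp only [Subgroup.map_iSup]
        rfl
    _ = _ := by
        refine iSup_congr fun W => iSup_congr fun hW => ?_
        rw [conjSub_inf, hcomm, conj_member h𝓦 hT hh hW]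

variable (S : Sylow p G) (good : Subgroup G → Prop)
  (hexists : ∀ X ≤ (S : Subgroup G), ∃ u, good (conjSub u X) ∧ conjSub u X ≤ (S : Subgroup G) ∧
    conjSub u ((S : Subgroup G) ⊓ normalizer (X : Set G)) ≤ (S : Subgroup G))
  (hfull : ∀ X, good X → Full p (S : Subgroup G) X)
  (htop : ∀ X ≤ (S : Subgroup G), (S : Subgroup G) ≤ normalizer (X : Set G) → good X)

include h𝓦 hexists hfull htop in
theorem fusion_local_global
    (hloc : ∀ X ≤ (S : Subgroup G), X ≠ ⊥ → good X →
      FamilyControlsStrongFusionIn p 𝓦 (normalizer (X : Set G))) :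
    Ctrl (S : Subgroup G) ⊤ (NSet ⊤ 𝓦 (S : Subgroup G)) := by
  refine fun A g _ hA hgA => local_global S (Fus (S : Subgroup G) (NSet ⊤ 𝓦 (S : Subgroup G))) good
    (fun hBA h => h.restrict hBA) (fun h1 h2 => h1.trans h2) (fun g => Fus.of_centralizes
      (mem_centralizer_iff.2 fun a ha => by rw [mem_bot.1 ha]; simp))
    hexists hfull htop ?_ A g hA hgA
  intro X hX hX0 hgood ih B n hn hB hnB
  set Q := (S : Subgroup G) ⊓ normalizer (X : Set G) with hQ
  have hQp : IsPGroup p Q := isPGroup_norm S X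
  refine (family_ctrl_at h𝓦 (hloc X hX hX0 hgood) hQp inf_le_right (hfull X hgood) B n hn hB
    hnB).bind hB ?_
  rintro _ ⟨W, hW, rfl⟩ m hm C hC hmC
  rcases eq_or_lt_of_le (inf_le_left : Q ≤ (S : Subgroup G)) with he | hlt
  · rw [show Q = (S : Subgroup G) from he] at hC hmC hm
    exact Fus.of_mem ⟨W, hW, rfl⟩ ⟨mem_top m, hm.2⟩ hmC
  · have hQ0 : Q ≠ ⊥ := fun h => hX0 (le_bot_iff.1 ((le_inf hX le_normalizer).trans h.le))
    have hle : (S : Subgroup G) ⊓ normalizer (Q : Set G) ≤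
        (S : Subgroup G) ⊓ normalizer ((W Q : Subgroup G) : Set G) :=
      inf_le_inf_left _ (normalizer_le_normalizer_functor (h𝓦 W hW) hQp)
    have hQle : Q ≤ (S : Subgroup G) ⊓ normalizer ((W Q : Subgroup G) : Set G) :=
      (le_inf inf_le_left le_normalizer).trans hle
    exact ih (W Q) ((functor_le (h𝓦 W hW) hQp).trans inf_le_left) ((h𝓦 W hW Q hQp).2.1 hQ0)
      ((card_lt_of_lt (lt_norm S.2 hlt)).trans_le (card_le_of_le hle)) C m hm.2 (hC.trans hQle)
      (hmC.trans hQle)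

include h𝓦 hexists hfull htop in
theorem transfer_local_global
    (hloc : ∀ X ≤ (S : Subgroup G), X ≠ ⊥ → good X →
      FamilyControlsTransferIn p 𝓦 (normalizer (X : Set G))) :
    (S : Subgroup G) ⊓ ⁅(⊤ : Subgroup G), (⊤ : Subgroup G)⁆ = transferTarget ⊤ 𝓦 (S : Subgroup G) := by
  set R := transferTarget ⊤ 𝓦 (S : Subgroup G) with hR
  refine le_antisymm ?_ (iSup₂_le fun W _ => inf_le_inf_left _
    (commutator_mono le_top le_top))
  let Φ : Subgroup G → G → Prop := fun A g => ∀ a ∈ A, a⁻¹ * (g * a * g⁻¹) ∈ R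
  have main : ∀ A g, A ≤ (S : Subgroup G) → conjSub g A ≤ (S : Subgroup G) → Φ A g := by
    refine local_global S Φ good (fun hBA h a ha => h a (hBA ha)) ?_ ?_ hexists hfull htop ?_
    · intro A g h h1 h2 a ha
      have := mul_mem (h1 a ha) (h2 _ (conj_mem_conjSub ha))
      rwa [show a⁻¹ * (g * a * g⁻¹) * ((g * a * g⁻¹)⁻¹ * (h * (g * a * g⁻¹) * h⁻¹)) =
        a⁻¹ * (h * g * a * (h * g)⁻¹) by group] at this
    · intro g a ha
      rw [mem_bot.1 ha]; simp
    intro X hX hX0 hgood ih B n hn hB hnB a ha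
    set Q := (S : Subgroup G) ⊓ normalizer (X : Set G) with hQ
    have hQp : IsPGroup p Q := isPGroup_norm S X
    have hmem : a⁻¹ * (n * a * n⁻¹) ∈ Q ⊓ ⁅normalizer (X : Set G), normalizer (X : Set G)⁆ := by
      refine mem_inf.2 ⟨mul_mem (inv_mem (hB ha)) (hnB (conj_mem_conjSub ha)), ?_⟩
      rw [show a⁻¹ * (n * a * n⁻¹) = ⁅a⁻¹, n⁆ by simp only [commutatorElement_def]; group]
      exact commutator_mem_commutator (inv_mem (hB ha).2) hn
    rw [family_transfer_at h𝓦 (hloc X hX hX0 hgood) hQp inf_le_right (hfull X hgood)] at hmem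
    refine (show transferTarget (normalizer (X : Set G)) 𝓦 Q ≤ R from iSup₂_le fun W hW => ?_) hmem
    rcases eq_or_lt_of_le (inf_le_left : Q ≤ (S : Subgroup G)) with he | hlt
    · rw [show Q = (S : Subgroup G) from he]
      exact le_trans (inf_le_inf_left _ (commutator_mono (le_inf le_top inf_le_right)
        (le_inf le_top inf_le_right))) (le_iSup₂ (f := fun W (_ : W ∈ 𝓦) => (S : Subgroup G) ⊓
          ⁅⊤ ⊓ normalizer ((W (S : Subgroup G) : Subgroup G) : Set G),
            ⊤ ⊓ normalizer ((W (S : Subgroup G) : Subgroup G) : Set G)⁆) W hW)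
    · have hQ0 : Q ≠ ⊥ := fun h => hX0 (le_bot_iff.1 ((le_inf hX le_normalizer).trans h.le))
      have hQM : Q ≤ normalizer (X : Set G) ⊓ normalizer ((W Q : Subgroup G) : Set G) :=
        le_inf inf_le_right (le_normalizer.trans (normalizer_le_normalizer_functor (h𝓦 W hW) hQp))
      have hle : (S : Subgroup G) ⊓ normalizer (Q : Set G) ≤
          (S : Subgroup G) ⊓ normalizer ((W Q : Subgroup G) : Set G) :=
        inf_le_inf_left _ (normalizer_le_normalizer_functor (h𝓦 W hW) hQp)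
      have hQle : Q ≤ (S : Subgroup G) ⊓ normalizer ((W Q : Subgroup G) : Set G) :=
        (le_inf inf_le_left le_normalizer).trans hle
      refine inf_commutator_le hQp hQM (fun hd => hfull X hgood (hd.trans ?_)) fun b hb m hm hmb => ?_
      · exact Dvd.intro _ (relIndex_mul_relIndex _ _ _ hQM inf_le_left)
      · refine ih (W Q) ((functor_le (h𝓦 W hW) hQp).trans inf_le_left) ((h𝓦 W hW Q hQp).2.1 hQ0)
          ((card_lt_of_lt (lt_norm S.2 hlt)).trans_le (card_le_of_le hle)) (zpowers b) m hm.2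
          (zpowers_le.2 (hQle hb)) ?_ b (mem_zpowers b)
        show (zpowers b).map (MulAut.conj m).toMonoidHom ≤ _
        rw [MonoidHom.map_zpowers]
        exact zpowers_le.2 (hQle hmb)
  refine inf_commutator_le S.2 le_top (relIndex_sylow_not_dvd S le_top) fun a ha m _ hma => ?_
  refine main (zpowers a) m (zpowers_le.2 ha) ?_ a (mem_zpowers a)
  show (zpowers a).map (MulAut.conj m).toMonoidHom ≤ _
  rw [MonoidHom.map_zpowers]
  exact zpowers_le.2 hma

omit good hexists hfull htop in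
theorem exists_full' : ∀ X ≤ (S : Subgroup G), ∃ u, Full p (S : Subgroup G) (conjSub u X) ∧
    conjSub u X ≤ (S : Subgroup G) ∧
    conjSub u ((S : Subgroup G) ⊓ normalizer (X : Set G)) ≤ (S : Subgroup G) := fun X hX =>
  let ⟨u, h1, h2, h3⟩ := exists_full S hX
  ⟨u, h2, h1, h3⟩

omit good hexists hfull htop in
theorem family_top_of_ctrl (h : Ctrl (S : Subgroup G) ⊤ (NSet ⊤ 𝓦 (S : Subgroup G))) :
    FamilyControlsStrongFusionIn p 𝓦 ⊤ :=
  (family_iff ⊤ 𝓦 p).2 ⟨(S : Subgroup G), le_top, S.2, relIndex_sylow_not_dvd S le_top, h⟩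

omit [Finite G] [Fact p.Prime] good hexists hfull htop in
theorem transfer_single_iff (W : Subgroup G → Subgroup G) (H : Subgroup G) :
    ControlsTransferIn p W H ↔ FamilyControlsTransferIn p {W} H := by
  refine exists_congr fun T => ?_
  simp only [Set.mem_singleton_iff, iSup_iSup_eq_left]

omit [Finite G] [Fact p.Prime] good hexists hfull htop in
theorem fusion_single_iff (W : Subgroup G → Subgroup G) (H : Subgroup G) :
    ControlsStrongFusionIn p W H ↔ FamilyControlsStrongFusionIn p {W} H := by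
  rw [single_iff, family_iff]
  simp only [Set.image_singleton]

end CfsgLib.Techniques.Functor
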