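import Cfsg.Agent.Lib.Techniques.Functor.Control

/-!
Isomorphism-invariant `p`-group functors: the induced conjugacy functor and its behaviour under
homomorphisms; sections.
-/

namespace CfsgLib.Techniques.Functor

open Subgroup Cfsg
open CfsgLib.Fusion (conjSub mem_conjSub conjSub_conjSub conjSub_one conjSub_mono card_conjSub
  conjSub_eq_iff_mem_normalizer conj_mem_conjSub)

universe u

variable {p : ℕ}

/-- `Δ` is a section of `Γ`. -/
def IsSect (Δ Γ : Type u) [Group Δ] [Group Γ] : Prop :=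
  ∃ (K : Subgroup Γ) (f : ↥K →* Δ), Function.Surjective f

theorem IsSect.refl (Γ : Type u) [Group Γ] : IsSect Γ Γ :=
  ⟨⊤, (⊤ : Subgroup Γ).subtype, fun x => ⟨⟨x, mem_top x⟩, rfl⟩⟩

theorem IsSect.subgroup {Γ : Type u} [Group Γ] (H : Subgroup Γ) : IsSect ↥H Γ :=
  ⟨H, MonoidHom.id _, Function.surjective_id⟩

theorem IsSect.quotient {Γ : Type u} [Group Γ] (N : Subgroup Γ) [N.Normal] : IsSect (Γ ⧸ N) Γ :=
  ⟨⊤, (QuotientGroup.mk' N).comp (⊤ : Subgroup Γ).subtype, fun x => by
    obtain ⟨y, rfl⟩ := QuotientGroup.mk'_surjective N x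
    exact ⟨⟨y, mem_top y⟩, rfl⟩⟩

theorem IsSect.trans {Δ Γ Θ : Type u} [Group Δ] [Group Γ] [Group Θ] (h₁ : IsSect Δ Γ)
    (h₂ : IsSect Γ Θ) : IsSect Δ Θ := by
  obtain ⟨K, f, hf⟩ := h₁
  obtain ⟨L, g, hg⟩ := h₂
  refine ⟨(K.comap g).map L.subtype, f.comp ((g.subgroupComap K).comp
    ((K.comap g).equivMapOfInjective L.subtype L.subtype_injective).symm.toMonoidHom), ?_⟩
  refine hf.comp (Function.Surjective.comp (g := g.subgroupComap K) ?_ (MulEquiv.surjective _))
  intro y
  obtain ⟨x, hx⟩ := hg (y : Γ)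
  exact ⟨⟨x, by rw [mem_comap, hx]; exact y.2⟩, Subtype.ext hx⟩

theorem IsSect.finite {Δ Γ : Type u} [Group Δ] [Group Γ] [Finite Γ] (h : IsSect Δ Γ) : Finite Δ :=
  let ⟨_, f, hf⟩ := h
  Finite.of_surjective f hf

/-- The data of a section given as a surjection from a subgroup, as a quotient. -/
theorem IsSect.exists_quotient {Δ Γ : Type u} [Group Δ] [Group Γ] (h : IsSect Δ Γ) :
    ∃ (K R : Subgroup Γ) (_ : (R.subgroupOf K).Normal), Nonempty (↥K ⧸ R.subgroupOf K ≃* Δ) := by
  obtain ⟨K, f, hf⟩ := h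
  have hR : (f.ker.map K.subtype).subgroupOf K = f.ker :=
    comap_map_eq_self_of_injective K.subtype_injective _
  refine ⟨K, f.ker.map K.subtype, by rw [hR]; infer_instance, ?_⟩
  have : ((f.ker.map K.subtype).subgroupOf K).Normal := by rw [hR]; infer_instance
  exact ⟨(QuotientGroup.quotientMulEquivOfEq hR).trans
    (QuotientGroup.quotientKerEquivOfSurjective f hf)⟩

section

variable {G G' : Type u} [Group G] [Group G'] {W : ∀ (Q : Type u) [Group Q], Subgroup Q}

theorem induced_le (P : Subgroup G) : inducedFunctor W P ≤ P := map_subtype_le _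

theorem map_induced (hW : IsCharPFunctor.{u} p W) (f : G →* G') {P : Subgroup G} [Finite P]
    (hP : IsPGroup p P) (hinj : ∀ x ∈ P, f x = 1 → x = 1) :
    (inducedFunctor W P).map f = inducedFunctor W (P.map f) := by
  let e : ↥P →* ↥(P.map f) := f.subgroupMap P
  have he : Function.Bijective e := ⟨(injective_iff_map_eq_one e).2 fun x hx =>
    Subtype.ext (hinj x x.2 (congrArg Subtype.val hx)), f.subgroupMap_surjective P⟩
  have h := hW.2 ↥P ↥(P.map f) hP (MulEquiv.ofBijective e he)
  show ((W ↥P).map P.subtype).map f = (W ↥(P.map f)).map (P.map f).subtype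
  rw [← h, map_map, map_map]
  rfl

theorem induced_ne_bot (hW : IsCharPFunctor.{u} p W) {P : Subgroup G} [Finite P]
    (hP : IsPGroup p P) (h : P ≠ ⊥) : inducedFunctor W P ≠ ⊥ := fun he =>
  hW.1 ↥P hP ((nontrivial_iff_ne_bot P).2 h)
    ((map_eq_bot_iff_of_injective _ P.subtype_injective).1 he)

theorem isConjugacyFunctor_induced [Finite G] (hW : IsCharPFunctor.{u} p W) :
    IsConjugacyFunctor p (inducedFunctor (G := G) W) := fun P hP =>
  ⟨induced_le P, induced_ne_bot hW hP, fun g => (map_induced hW (MulAut.conj g).toMonoidHom hP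
    fun x _ hx => (MulAut.conj g).injective (by simpa using hx)).symm⟩

theorem normalizer_induced_ge [Finite G] (hW : IsCharPFunctor.{u} p W) {P : Subgroup G}
    (hP : IsPGroup p P) :
    normalizer (P : Set G) ≤ normalizer ((inducedFunctor W P : Subgroup G) : Set G) :=
  normalizer_le_normalizer_functor (isConjugacyFunctor_induced hW) hP

theorem map_normalizer_induced (hW : IsCharPFunctor.{u} p W) (f : G →* G') {P : Subgroup G}
    [Finite P] (hP : IsPGroup p P) (hinj : ∀ x ∈ P, f x = 1 → x = 1) :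
    (normalizer ((inducedFunctor W P : Subgroup G) : Set G)).map f ≤
      normalizer ((inducedFunctor W (P.map f) : Subgroup G') : Set G') := by
  rw [← map_induced hW f hP hinj]
  exact le_normalizer_map f

end

end CfsgLib.Techniques.Functor
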