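import Cfsg.Agent.Lib.Techniques.Functor.SectionTransfer
import Cfsg.Agent.Lib.Techniques.GoodTransfer

/-!
The section forms of control of transfer.
-/

namespace CfsgLib.Techniques.Functor

open Subgroup Cfsg
open scoped commutatorElement
open CfsgLib.Fusion (conjSub mem_conjSub conjSub_conjSub conjSub_one conjSub_mono card_conjSub
  conjSub_eq_iff_mem_normalizer conj_mem_conjSub)

universe u

variable {p : ℕ} [Fact p.Prime] {𝓦 : Set (∀ (Q : Type u) [Group Q], Subgroup Q)}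

theorem tgt_singleton {G : Type u} [Group G] (W : ∀ (Q : Type u) [Group Q], Subgroup Q)
    (T : Subgroup G) : tgt ({W} : Set (∀ (Q : Type u) [Group Q], Subgroup Q)) T =
      T ⊓ ⁅normalizer ((inducedFunctor W T : Subgroup G) : Set G),
        normalizer ((inducedFunctor W T : Subgroup G) : Set G)⁆ := by
  simp only [tgt, Set.mem_singleton_iff, iSup_iSup_eq_left]

theorem map_tgt_le {G H : Type u} [Group G] [Group H] (h𝓦 : ∀ W ∈ 𝓦, IsCharPFunctor.{u} p W)
    (f : G →* H) {T : Subgroup G} [Finite T] (hT : IsPGroup p T)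
    (hinj : ∀ x ∈ T, f x = 1 → x = 1) : (tgt 𝓦 T).map f ≤ tgt 𝓦 (T.map f) := by
  simp only [tgt, Subgroup.map_iSup]
  refine iSup₂_le fun W hW => le_iSup₂_of_le W hW ?_
  exact le_inf (map_mono inf_le_left) (((map_mono inf_le_right).trans (map_commutator _ _ _).le).trans
    (commutator_mono (map_normalizer_induced (h𝓦 W hW) f hT hinj)
      (map_normalizer_induced (h𝓦 W hW) f hT hinj)))

theorem map_top_commutator {G H : Type u} [Group G] [Group H] (f : G →* H)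
    (hf : Function.Surjective f) :
    (⁅(⊤ : Subgroup G), (⊤ : Subgroup G)⁆).map f = ⁅(⊤ : Subgroup H), (⊤ : Subgroup H)⁆ := by
  rw [map_commutator, map_top_of_surjective f hf]

/-- Transport of the local hypothesis along an isomorphism. -/
theorem step_congr {Γ Δ : Type u} [Group Γ] [Group Δ] [Finite Γ] [Finite Δ] (e : Γ ≃* Δ)
    (h𝓦 : ∀ W ∈ 𝓦, IsCharPFunctor.{u} p W)
    (h : centralizer ((pCore p Γ : Subgroup Γ) : Set Γ) ≤ pCore p Γ → ∀ T : Sylow p Γ,
      (∀ H : Subgroup Γ, H ≠ ⊤ → (T : Subgroup Γ) ≤ H →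
        (T : Subgroup Γ) ⊓ ⁅H, H⁆ ≤ tgt 𝓦 (T : Subgroup Γ)) →
      pCore p Γ ⊓ ⁅(⊤ : Subgroup Γ), (⊤ : Subgroup Γ)⁆ ≤ tgt 𝓦 (T : Subgroup Γ))
    (hc : centralizer ((pCore p Δ : Subgroup Δ) : Set Δ) ≤ pCore p Δ) (S : Sylow p Δ)
    (hsub : ∀ H : Subgroup Δ, H ≠ ⊤ → (S : Subgroup Δ) ≤ H →
      (S : Subgroup Δ) ⊓ ⁅H, H⁆ ≤ tgt 𝓦 (S : Subgroup Δ)) :
    pCore p Δ ⊓ ⁅(⊤ : Subgroup Δ), (⊤ : Subgroup Δ)⁆ ≤ tgt 𝓦 (S : Subgroup Δ) := by
  let T : Sylow p Γ := S.mapSurjective (f := e.symm.toMonoidHom) e.symm.surjective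
  have hT : (T : Subgroup Γ) = (S : Subgroup Δ).map e.symm.toMonoidHom := Sylow.coe_mapSurjective _ _
  have hback : ∀ X : Subgroup Δ, (X.map e.symm.toMonoidHom).map e.toMonoidHom = X := fun X => by
    rw [map_map, show e.toMonoidHom.comp e.symm.toMonoidHom = MonoidHom.id Δ from
      MonoidHom.ext e.apply_symm_apply, map_id]
  have hfwd : ∀ X : Subgroup Γ, (X.map e.toMonoidHom).map e.symm.toMonoidHom = X := fun X => by
    rw [map_map, show e.symm.toMonoidHom.comp e.toMonoidHom = MonoidHom.id Γ from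
      MonoidHom.ext e.symm_apply_apply, map_id]
  have hmap := CfsgLib.Cores.map_pCore_equiv (p := p) e
  have hT' : (T : Subgroup Γ).map e.toMonoidHom = (S : Subgroup Δ) := by rw [hT, hback]
  have hcΓ : centralizer ((pCore p Γ : Subgroup Γ) : Set Γ) ≤ pCore p Γ := by
    intro x hx
    have h1 : e x ∈ centralizer ((pCore p Δ : Subgroup Δ) : Set Δ) := by
      refine mem_centralizer_iff.2 fun y hy => ?_
      rw [← hmap] at hy
      obtain ⟨z, hz, rfl⟩ := hy
      show e z * e x = e x * e z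
      rw [← map_mul, ← map_mul, mem_centralizer_iff.1 hx z hz]
    have h2 := hc h1
    rw [← hmap] at h2
    obtain ⟨z, hz, hzx⟩ := h2
    rwa [← e.injective hzx]
  have h1 := h hcΓ T fun H hH hTH => by
    have hne : H.map e.toMonoidHom ≠ ⊤ := fun hh => hH (by
      rw [← hfwd H, hh, map_top_of_surjective _ e.symm.surjective])
    have h2 := map_mono (f := e.symm.toMonoidHom) (hsub _ hne (hT' ▸ map_mono hTH))
    have h3 := h2.trans (map_tgt_le h𝓦 e.symm.toMonoidHom S.2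
      fun x _ hx => e.symm.injective (hx.trans (map_one e.symm).symm))
    rw [map_inf _ _ _ e.symm.injective, map_commutator, hfwd, ← hT] at h3
    exact h3
  have h4 := (map_mono (f := e.toMonoidHom) h1).trans (map_tgt_le h𝓦 e.toMonoidHom T.2
    fun x _ hx => e.injective (hx.trans (map_one e).symm))
  rw [map_inf _ _ _ e.injective, map_top_commutator _ e.surjective, hmap, hT'] at h4
  exact h4

/-- From the local hypothesis on all sections `K / R` of `G` to every section of `G`. -/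
theorem tgtOK_sections {G : Type u} [Group G] [Finite G] (h𝓦 : ∀ W ∈ 𝓦, IsCharPFunctor.{u} p W)
    (hloc : ∀ (K R : Subgroup G) [hR : (R.subgroupOf K).Normal],
      centralizer ((pCore p (↥K ⧸ R.subgroupOf K) : Subgroup (↥K ⧸ R.subgroupOf K)) :
        Set (↥K ⧸ R.subgroupOf K)) ≤ pCore p (↥K ⧸ R.subgroupOf K) →
      ∀ T : Sylow p (↥K ⧸ R.subgroupOf K),
        (∀ H : Subgroup (↥K ⧸ R.subgroupOf K), H ≠ ⊤ → (T : Subgroup (↥K ⧸ R.subgroupOf K)) ≤ H →
          (T : Subgroup (↥K ⧸ R.subgroupOf K)) ⊓ ⁅H, H⁆ ≤ tgt 𝓦 (T : Subgroup (↥K ⧸ R.subgroupOf K))) →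
        pCore p (↥K ⧸ R.subgroupOf K) ⊓ ⁅(⊤ : Subgroup (↥K ⧸ R.subgroupOf K)), (⊤ : Subgroup (↥K ⧸ R.subgroupOf K))⁆ ≤
          tgt 𝓦 (T : Subgroup (↥K ⧸ R.subgroupOf K)))
    (Γ : Type u) [Group Γ] [Finite Γ] (hΓ : IsSect Γ G) : TgtOK p 𝓦 Γ := by
  refine tgtOK_of_constrained h𝓦 Γ fun Δ _ _ hΔ hc S hsub => ?_
  obtain ⟨K, R, hR, ⟨e⟩⟩ := (hΔ.trans hΓ).exists_quotient
  exact step_congr e h𝓦 (hloc K R) hc S hsub

theorem controlsTransferIn_of_tgtOK {G : Type u} [Group G] [Finite G]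
    {W : ∀ (Q : Type u) [Group Q], Subgroup Q} (hW : IsCharPFunctor.{u} p W)
    (h : TgtOK p ({W} : Set (∀ (Q : Type u) [Group Q], Subgroup Q)) G) :
    ControlsTransferIn p (inducedFunctor (G := G) W) ⊤ := by
  have h1 := (tgtOK_iff (by rintro _ rfl; exact hW)).1 h
  rw [Set.image_singleton] at h1
  exact (transfer_single_iff _ _).2 h1

theorem sect_quotient {G : Type u} [Group G] (K R : Subgroup G) [(R.subgroupOf K).Normal] :
    IsSect (↥K ⧸ R.subgroupOf K) G :=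
  (IsSect.quotient (R.subgroupOf K)).trans (IsSect.subgroup K)

/-- An element of degree less than `p` outside `O_p` puts `O_p ∩ G'` into the derived subgroup of a proper
subgroup containing the Sylow subgroup. -/
theorem exists_proper_of_good {Γ : Type u} [Group Γ] [Finite Γ] (S : Sylow p Γ) {g : Γ}
    (hgS : g ∈ (S : Subgroup Γ)) (hgP : g ∉ pCore p Γ)
    (hg : ∀ U V : Subgroup Γ, IsChiefFactor U V → U ≤ pCore p Γ →
      iterCommutator U (zpowers g) (p - 1) ≤ V) :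
    ∃ H : Subgroup Γ, H ≠ ⊤ ∧ (S : Subgroup Γ) ≤ H ∧
      pCore p Γ ⊓ ⁅(⊤ : Subgroup Γ), (⊤ : Subgroup Γ)⁆ ≤ ⁅H, H⁆ := by
  set P := pCore p Γ with hP
  have hPn : P.Normal := by
    have := CfsgLib.Cores.pCore_characteristic (G := Γ) p
    infer_instance
  have hPp : IsPGroup p P := CfsgLib.Cores.isPGroup_pCore p
  have hPS : P ≤ (S : Subgroup Γ) := CfsgLib.Cores.pCore_le_sylow S
  set 𝒢 : Set Γ := {a | ∀ U V : Subgroup Γ, IsChiefFactor U V → U ≤ P →
    iterCommutator U (zpowers a) (p - 1) ≤ V} with h𝒢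
  have hconj : ∀ c : Γ, ∀ a ∈ 𝒢, c * a * c⁻¹ ∈ 𝒢 := by
    intro c a ha U V hUV hUP
    haveI := hUV.2.1
    haveI := hUV.2.2.1
    have hUU := Chief.chief_comm hUV (hPp.to_le hUP)
    refine (Chief.iter_le_iff_normal hUV.1.le hUU _ _).2 fun u hu => ?_
    have hu' : c⁻¹ * u * c ∈ U := by simpa using hUV.2.1.conj_mem u hu c⁻¹
    have h1 := (Chief.iter_le_iff_normal hUV.1.le hUU a (p - 1)).1 (ha U V hUV hUP) _ hu'
    have h2 : ∀ k, (fun x => ⁅x, c * a * c⁻¹⁆)^[k] u =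
        c * (fun x => ⁅x, a⁆)^[k] (c⁻¹ * u * c) * c⁻¹ := by
      intro k
      induction k with
      | zero => show u = c * (c⁻¹ * u * c) * c⁻¹; group
      | succ k ih =>
        simp only [Function.iterate_succ_apply']
        rw [ih, Chief.elt_conj]
    rw [h2]
    exact hUV.2.2.1.conj_mem _ h1 c
  set A := closure (𝒢 ∩ ((S : Subgroup Γ) : Set Γ)) with hA
  have hAS : A ≤ (S : Subgroup Γ) := (closure_le _).2 Set.inter_subset_right
  set H := normalizer (A : Set Γ) with hH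
  have hSH : (S : Subgroup Γ) ≤ H := by
    intro s hs
    rw [hH, ← conjSub_eq_iff_mem_normalizer]
    refine eq_of_le_of_card_ge ?_ (card_conjSub _ _).ge
    rw [hA, conjSub, MonoidHom.map_closure, closure_le]
    rintro _ ⟨a, ⟨ha, haS⟩, rfl⟩
    exact subset_closure ⟨hconj s a ha, mul_mem (mul_mem hs haS) (inv_mem hs)⟩
  have hHne : H ≠ ⊤ := fun h => hgP <| CfsgLib.Cores.le_pCore (hn := normalizer_eq_top_iff.1 h)
    (S.2.to_le hAS) (subset_closure ⟨hg, hgS⟩)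
  refine ⟨H, hHne, hSH, ?_⟩
  refine CfsgLib.Techniques.GoodTransfer.inf_commutator_le (A := A) hPp (hPS.trans hSH) (S.2.to_le hAS)
    (fun t ht => ?_) (hAS.trans hSH) ?_
  · have hle : conjSub t⁻¹ A ≤ H := by
      rintro _ ⟨a, ha, rfl⟩
      simpa using ht a ha
    obtain ⟨h, hh, hhm⟩ := CfsgLib.Fusion.exists_conj_mem_of_le
      ((S.2.to_le hAS).map (MulAut.conj t⁻¹).toMonoidHom) S.2 hle hSH (relIndex_sylow_not_dvd S hSH)
    have hN : h * t⁻¹ ∈ H := by
      rw [hH, ← conjSub_eq_iff_mem_normalizer]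
      refine eq_of_le_of_card_ge ?_ (card_conjSub _ _).ge
      rw [hA, conjSub, MonoidHom.map_closure, closure_le]
      rintro _ ⟨a, ⟨ha, haS⟩, rfl⟩
      refine subset_closure ⟨hconj _ a ha, ?_⟩
      have h9 := hhm (t⁻¹ * a * t⁻¹⁻¹) ⟨a, subset_closure ⟨ha, haS⟩, rfl⟩
      show h * t⁻¹ * a * (h * t⁻¹)⁻¹ ∈ (S : Subgroup Γ)
      rwa [show h * t⁻¹ * a * (h * t⁻¹)⁻¹ = h * (t⁻¹ * a * t⁻¹⁻¹) * h⁻¹ by group]
    have h2 := mul_mem (inv_mem hh) hN
    rw [inv_mul_cancel_left] at h2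
    simpa using inv_mem h2
  · exact (closure_le _).2 fun a ha => subset_closure ⟨subset_closure ha, ha.1⟩

/-- An element of degree less than `p` outside `O_p` gives the local transfer condition. -/
theorem step_of_good {Γ : Type u} [Group Γ] [Finite Γ] {W : ∀ (Q : Type u) [Group Q], Subgroup Q}
    (S : Sylow p Γ)
    (hgood : ¬ (inducedFunctor (G := Γ) W (S : Subgroup Γ)).Normal → ∃ g : Γ, g ∈ (S : Subgroup Γ) ∧
      g ∉ pCore p Γ ∧ ∀ U V : Subgroup Γ, IsChiefFactor U V → U ≤ pCore p Γ →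
        iterCommutator U (zpowers g) (p - 1) ≤ V)
    (hsub : ∀ H : Subgroup Γ, H ≠ ⊤ → (S : Subgroup Γ) ≤ H → (S : Subgroup Γ) ⊓ ⁅H, H⁆ ≤
      tgt ({W} : Set (∀ (Q : Type u) [Group Q], Subgroup Q)) (S : Subgroup Γ)) :
    pCore p Γ ⊓ ⁅(⊤ : Subgroup Γ), (⊤ : Subgroup Γ)⁆ ≤
      tgt ({W} : Set (∀ (Q : Type u) [Group Q], Subgroup Q)) (S : Subgroup Γ) := by
  set P := pCore p Γ with hP
  have hPn : P.Normal := by
    have := CfsgLib.Cores.pCore_characteristic (G := Γ) p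
    infer_instance
  have hPS : P ≤ (S : Subgroup Γ) := CfsgLib.Cores.pCore_le_sylow S
  by_cases hn : (inducedFunctor (G := Γ) W (S : Subgroup Γ)).Normal
  · rw [tgt_singleton, normalizer_eq_top]
    exact inf_le_inf_right _ hPS
  obtain ⟨g, hgS, hgP, hg⟩ := hgood hn
  obtain ⟨H, hHne, hSH, hle⟩ := exists_proper_of_good S hgS hgP hg
  exact (le_inf (inf_le_left.trans hPS) hle).trans (hsub H hHne hSH)

end CfsgLib.Techniques.Functor
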