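import Cfsg.Agent.Lib.Techniques.Functor.WellPlaced
import Cfsg.Agent.Lib.Cores.Basic

/-!
Conjugation families (conjugation on the right), and the locally weakly closed subgroups.
-/

namespace CfsgLib.Techniques.Functor

open Subgroup Cfsg
open CfsgLib.Fusion (conjSub mem_conjSub conjSub_conjSub conjSub_one conjSub_mono card_conjSub
  conjSub_eq_iff_mem_normalizer conj_mem_conjSub)

variable {G : Type*} [Group G]

/-- Conjugation on the right by `g` on `A` is done stepwise in normalizers of members of `𝓕`. -/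
inductive Fam (𝓕 : Set (Subgroup G)) : Subgroup G → G → Prop
  | nil (A : Subgroup G) : Fam 𝓕 A 1
  | cons {A T : Subgroup G} {x g : G} : T ∈ 𝓕 → A ≤ T → x ∈ normalizer (T : Set G) →
      Fam 𝓕 (conjSub x⁻¹ A) g → Fam 𝓕 A (x * g)

theorem Fam.single {𝓕 : Set (Subgroup G)} {A T : Subgroup G} {x : G} (hT : T ∈ 𝓕) (hA : A ≤ T)
    (hx : x ∈ normalizer (T : Set G)) : Fam 𝓕 A x := by
  simpa using Fam.cons hT hA hx (Fam.nil _)

theorem Fam.restrict {𝓕 : Set (Subgroup G)} {A : Subgroup G} {g : G} (h : Fam 𝓕 A g) :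
    ∀ {B : Subgroup G}, B ≤ A → Fam 𝓕 B g := by
  induction h with
  | nil A => exact fun _ => Fam.nil _
  | cons hT hA hx _ ih => exact fun hBA => Fam.cons hT (hBA.trans hA) hx (ih (conjSub_mono _ hBA))

theorem Fam.append {𝓕 : Set (Subgroup G)} {A : Subgroup G} {g h : G} (h₁ : Fam 𝓕 A g)
    (h₂ : Fam 𝓕 (conjSub g⁻¹ A) h) : Fam 𝓕 A (g * h) := by
  induction h₁ with
  | nil A => simpa [conjSub_one] using h₂
  | @cons A T x g hT hA hx _ ih =>
    rw [mul_assoc]
    refine Fam.cons hT hA hx (ih ?_)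
    rwa [conjSub_conjSub, ← mul_inv_rev]

theorem Fam.spec {𝓕 : Set (Subgroup G)} {A : Subgroup G} {g : G} (h : Fam 𝓕 A g) :
    ∃ (n : ℕ) (T : Fin n → Subgroup G) (x : Fin n → G), (List.ofFn x).prod = g ∧
      (∀ i, T i ∈ 𝓕) ∧ (∀ i, x i ∈ normalizer ((T i : Subgroup G) : Set G)) ∧
      (∀ h : 0 < n, A ≤ T ⟨0, h⟩) ∧
      ∀ (i : Fin n) (h : i.val + 1 < n),
        conjSub (((List.ofFn x).take (i.val + 1)).prod)⁻¹ A ≤ T ⟨i.val + 1, h⟩ := by
  induction h with
  | nil A => exact ⟨0, Fin.elim0, Fin.elim0, rfl, fun i => i.elim0, fun i => i.elim0,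
      fun h => absurd h (lt_irrefl 0), fun i => i.elim0⟩
  | @cons A T x g hT hA hx _ ih =>
    obtain ⟨n, Ts, xs, h1, h2, h3, h4, h5⟩ := ih
    refine ⟨n + 1, Fin.cons T Ts, Fin.cons x xs, ?_, ?_, ?_, fun _ => hA, ?_⟩
    · rw [List.ofFn_cons, List.prod_cons, h1]
    · intro i; cases i using Fin.cases with
      | zero => exact hT
      | succ i => simpa using h2 i
    · intro i; cases i using Fin.cases with
      | zero => exact hx
      | succ i => simpa using h3 i
    · intro i hi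
      have hi' : i.val < n := by omega
      rw [show (⟨i.val + 1, hi⟩ : Fin (n + 1)) = Fin.succ ⟨i.val, hi'⟩ from rfl, Fin.cons_succ,
        List.ofFn_cons]
      simp only [List.take_succ_cons, List.prod_cons, mul_inv_rev]
      rw [← conjSub_conjSub]
      obtain ⟨iv, hiv⟩ := i
      cases iv with
      | zero =>
        simp only [List.take_zero, List.prod_nil, inv_one, conjSub_one]
        exact h4 (by omega)
      | succ k => exact h5 ⟨k, by omega⟩ (by show k + 1 < n; omega)

theorem isConjugationFamily_of_fam {𝓕 : Set (Subgroup G)} {S : Subgroup G} (hle : ∀ T ∈ 𝓕, T ≤ S)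
    (h : ∀ A ≤ S, ∀ g, conjSub g⁻¹ A ≤ S → Fam 𝓕 A g) : IsConjugationFamily 𝓕 S := by
  refine ⟨hle, fun A g _ hA hgA => ?_⟩
  obtain ⟨n, T, x, h1, h2, h3, h4, h5⟩ := (h (closure A) ((closure_le S).2 hA) g (by
    rw [conjSub, MonoidHom.map_closure, closure_le]
    simpa [Set.image_subset_iff, Set.preimage, Set.subset_def] using hgA)).spec
  refine ⟨n, T, x, h1, h2, h3, fun h => subset_closure.trans (h4 h), fun i hi => ?_⟩
  rintro _ ⟨a, ha, rfl⟩
  exact h5 i hi ⟨a, subset_closure ha, by simp [mul_assoc]⟩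

variable [Finite G] {p : ℕ} [Fact p.Prime] (S : Sylow p G)

theorem fam_of_fully_normalized {𝓕 : Set (Subgroup G)}
    (h : ∀ T : Subgroup G, T ≤ (S : Subgroup G) → ∃ U ∈ 𝓕, U ≤ (S : Subgroup G) ∧
      (∃ g : G, conjSub g T = U) ∧ Full p (S : Subgroup G) U) :
    ∀ A ≤ (S : Subgroup G), ∀ g, conjSub g⁻¹ A ≤ (S : Subgroup G) → Fam 𝓕 A g := by
  suffices key : ∀ d, ∀ A ≤ (S : Subgroup G), Nat.card ↥(S : Subgroup G) - Nat.card A = d →
      ∀ g, conjSub g⁻¹ A ≤ (S : Subgroup G) → Fam 𝓕 A g from fun A hA => key _ A hA rfl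
  intro d
  induction d using Nat.strong_induction_on with
  | _ d ih =>
    intro A hA hd g hgA
    rcases eq_or_lt_of_le hA with rfl | hlt
    · obtain ⟨U, hU, hUS, ⟨u, hu⟩, -⟩ := h _ le_rfl
      have hUeq : U = (S : Subgroup G) := eq_of_le_of_card_ge hUS (by rw [← hu, card_conjSub])
      rw [hUeq] at hU
      refine Fam.single hU le_rfl ?_
      have : g⁻¹ ∈ normalizer ((S : Subgroup G) : Set G) := by
        rw [← conjSub_eq_iff_mem_normalizer]
        exact eq_of_le_of_card_ge hgA (card_conjSub _ _).ge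
      simpa using inv_mem this
    set B := conjSub g⁻¹ A with hB
    have hBlt : B < (S : Subgroup G) := lt_of_le_of_ne hgA fun he => hlt.ne
      (eq_of_le_of_card_ge hlt.le (by rw [← card_conjSub g⁻¹ A, ← hB, he]))
    obtain ⟨U, hU, hUS, ⟨u, hu⟩, hUf⟩ := h A hA
    obtain ⟨w, hw, hwN⟩ := exists_move S (X := A) (u := u) (by rwa [hu])
    obtain ⟨w', hw', hw'N⟩ := exists_move S (X := B) (u := u * g) (by
      rw [hB, conjSub_conjSub, mul_inv_cancel_right]; rwa [hu])
    rw [hB, conjSub_conjSub (u * g), mul_inv_cancel_right, hu, ← hB] at hw' hw'N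
    rw [hu] at hw hwN
    have hcA := card_lt_of_lt (lt_norm S.2 hlt)
    have hcB := card_lt_of_lt (lt_norm S.2 hBlt)
    rw [hB, card_conjSub] at hcB
    have hcS : ∀ {X : Subgroup G}, X ≤ (S : Subgroup G) → Nat.card X ≤ Nat.card ↥(S : Subgroup G) :=
      fun h => card_le_of_le h
    have h1 : Fam 𝓕 A w⁻¹ :=
      (ih _ (by have := hcS (inf_le_left : (S : Subgroup G) ⊓ normalizer (A : Set G) ≤ _); omega)
        _ inf_le_left rfl w⁻¹ (by rw [inv_inv]; exact hwN.trans inf_le_left)).restrict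
        (le_inf hA le_normalizer)
    have hx : w * g * w'⁻¹ ∈ normalizer (U : Set G) := by
      have hB' : conjSub w'⁻¹ U = B := by rw [← hw', conjSub_conjSub, inv_mul_cancel, conjSub_one]
      rw [← conjSub_eq_iff_mem_normalizer, ← conjSub_conjSub, ← conjSub_conjSub, hB', hB,
        conjSub_conjSub g, mul_inv_cancel, conjSub_one, hw]
    have h2 : Fam 𝓕 U (w * g * w'⁻¹) := Fam.single hU le_rfl hx
    have h3 : Fam 𝓕 U w' := by
      set D := conjSub w' ((S : Subgroup G) ⊓ normalizer (B : Set G)) with hD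
      have hUD : U ≤ D := by rw [hD, ← hw']; exact conjSub_mono _ (le_inf hgA le_normalizer)
      have hDc : Nat.card D = Nat.card ↥((S : Subgroup G) ⊓ normalizer (B : Set G)) :=
        card_conjSub _ _
      refine (ih _ ?_ D (hw'N.trans inf_le_left) rfl w'
        (by rw [hD, conjSub_conjSub, inv_mul_cancel, conjSub_one]; exact inf_le_left)).restrict hUD
      have := hcS (inf_le_left : (S : Subgroup G) ⊓ normalizer (B : Set G) ≤ _)
      rw [hB] at this hDc
      omega
    have h4 := h1.append (g := w⁻¹) (h := w * g * w'⁻¹ * w') (by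
      rw [inv_inv, hw]
      refine h2.append ?_
      rw [conjSub_eq_iff_mem_normalizer.2 (inv_mem hx)]
      exact h3)
    rwa [inv_mul_cancel_right, inv_mul_cancel_left] at h4


end CfsgLib.Techniques.Functor
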