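import Cfsg.Agent.Lib.Techniques.Functor.TransferStatements

/-!
Control of transfer on all sections and a `p`-group automizer of a Sylow subgroup give a normal
subgroup of index `p`.
-/

namespace CfsgLib.Techniques.Functor

open Subgroup Cfsg
open scoped commutatorElement

universe u

variable {p : ℕ} [Fact p.Prime]

theorem exists_index_prime {G : Type*} [Group G] [Finite G] (h : p ∣ (commutator G).index) :
    ∃ N : Subgroup G, N.Normal ∧ N.index = p := by
  have hp : p.Prime := Fact.out
  set π : G →* Abelianization G := Abelianization.of with hπ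
  have hsur : Function.Surjective π := Quotient.mk_surjective
  haveI : Finite (Abelianization G) := Finite.of_surjective π hsur
  have hcard : p ∣ Nat.card (Abelianization G) := h
  obtain ⟨y, hy⟩ := exists_prime_orderOf_dvd_card' p hcard
  set R : Subgroup (Abelianization G) := (powMonoidHom p).range with hR
  have hR' : R ≠ ⊤ := fun htop => by
    have hinj : Function.Injective (powMonoidHom p : Abelianization G →* Abelianization G) :=
      Finite.injective_iff_surjective.2 fun x => MonoidHom.range_eq_top.1 (hR ▸ htop) x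
    have h1 : y = 1 := hinj (by simp [← hy, pow_orderOf_eq_one])
    rw [h1, orderOf_one] at hy
    exact hp.one_lt.ne hy
  obtain ⟨M, hM, hRM⟩ := (eq_top_or_exists_le_coatom R).resolve_left hR'
  obtain ⟨x, hx⟩ : ∃ x, x ∉ M := by
    by_contra hall
    push Not at hall
    exact hM.1 (eq_top_iff.2 fun z _ => hall z)
  have htop : M ⊔ zpowers x = ⊤ := hM.2 _ (lt_of_le_of_ne le_sup_left fun he => hx (by
    rw [he]; exact le_sup_right (a := M) (mem_zpowers x)))
  refine ⟨M.comap π, inferInstance, ?_⟩
  rw [index_comap_of_surjective M hsur, index_eq_card]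
  have hgen : (⊤ : Subgroup (Abelianization G ⧸ M)) = zpowers (QuotientGroup.mk' M x) := by
    rw [← map_top_of_surjective _ (QuotientGroup.mk'_surjective M), ← htop, Subgroup.map_sup,
      MonoidHom.map_zpowers, QuotientGroup.map_mk'_self, bot_sup_eq]
  have hord : orderOf (QuotientGroup.mk' M x) = p := by
    refine orderOf_eq_prime ?_ fun h1 => hx ((QuotientGroup.eq_one_iff x).1 h1)
    rw [← map_pow]
    exact (QuotientGroup.eq_one_iff _).2 (hRM ⟨x, rfl⟩)
  rw [← hord, ← Nat.card_zpowers, ← hgen, card_top]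

theorem not_le_derived {W : ∀ (Q : Type u) [Group Q], Subgroup Q} (hW : IsCharPFunctor.{u} p W) :
    ∀ n, ∀ (Γ : Type u) [Group Γ] [Finite Γ], Nat.card Γ = n →
      (∀ (Δ : Type u) [Group Δ] [Finite Δ], IsSect Δ Γ →
        TgtOK p ({W} : Set (∀ (Q : Type u) [Group Q], Subgroup Q)) Δ) →
      ∀ S : Sylow p Γ, (S : Subgroup Γ) ≠ ⊥ →
        (∀ g ∈ normalizer ((S : Subgroup Γ) : Set Γ), (orderOf g).Coprime p →
          g ∈ centralizer ((S : Subgroup Γ) : Set Γ)) →
        ¬ (S : Subgroup Γ) ≤ ⁅(⊤ : Subgroup Γ), (⊤ : Subgroup Γ)⁆ := by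
  intro n
  induction n using Nat.strong_induction_on with
  | _ n ih =>
    intro Γ _ _ hn hsec S hS hN hle
    have hp : p.Prime := Fact.out
    have h0 := hsec Γ (IsSect.refl Γ) S
    rw [tgt_singleton] at h0
    set Z := inducedFunctor W (S : Subgroup Γ) with hZdef
    set N := normalizer (Z : Set Γ) with hNdef
    have hSN' : (S : Subgroup Γ) ≤ ⁅N, N⁆ := ((le_inf le_rfl hle).trans h0).trans inf_le_right
    have hSN : (S : Subgroup Γ) ≤ N :=
      le_normalizer.trans (normalizer_induced_ge hW S.2)
    have hZS : Z ≤ (S : Subgroup Γ) := induced_le _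
    have hZne : Z ≠ ⊥ := induced_ne_bot hW S.2 hS
    rcases eq_or_lt_of_le hZS with hZe | hZlt
    · have hfoc : (S : Subgroup Γ) ⊓ ⁅N, N⁆ ≤ ⁅(S : Subgroup Γ), (S : Subgroup Γ)⁆ := by
        refine inf_commutator_le S.2 hSN (relIndex_sylow_not_dvd S hSN) fun a ha m hm hma => ?_
        have hmN : m ∈ normalizer ((S : Subgroup Γ) : Set Γ) := by rw [← hZe]; exact hm
        obtain ⟨k, r, hr, hkr⟩ := Nat.exists_eq_pow_mul_and_not_dvd
          (orderOf_pos m).ne' p hp.one_lt.ne'
        have hcop : Nat.Coprime (p ^ k) r := ((hp.coprime_iff_not_dvd).2 hr).pow_left k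
        obtain ⟨α, β, hab⟩ : ∃ α β : ℤ, (p ^ k : ℤ) * α + r * β = 1 := by
          refine ⟨Nat.gcdA (p ^ k) r, Nat.gcdB (p ^ k) r, ?_⟩
          have := Nat.gcd_eq_gcd_ab (p ^ k) r
          rw [hcop] at this
          push_cast at this
          exact this.symm
        have hm1 : m ^ ((r : ℤ) * β) * m ^ ((p ^ k : ℤ) * α) = m := by
          rw [← zpow_add, add_comm, hab, zpow_one]
        set c := m ^ ((p ^ k : ℤ) * α) with hc
        set s := m ^ ((r : ℤ) * β) with hs
        have hcr : c ^ r = 1 := by
          rw [hc, ← zpow_natCast, ← zpow_mul, ← orderOf_dvd_iff_zpow_eq_one, hkr]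
          exact ⟨α, by push_cast; ring⟩
        have hsp : s ^ (p ^ k) = 1 := by
          rw [hs, ← zpow_natCast, ← zpow_mul, ← orderOf_dvd_iff_zpow_eq_one, hkr]
          exact ⟨β, by push_cast; ring⟩
        have hcC : c ∈ centralizer ((S : Subgroup Γ) : Set Γ) := hN c (zpow_mem hmN _)
          (((hp.coprime_iff_not_dvd).2 hr).symm.coprime_dvd_left (orderOf_dvd_of_pow_eq_one hcr))
        have hsS : s ∈ (S : Subgroup Γ) := by
          have hzp : IsPGroup p (zpowers s) := by
            obtain ⟨j, -, hj⟩ := (Nat.dvd_prime_pow hp).1 (orderOf_dvd_of_pow_eq_one hsp)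
            exact IsPGroup.of_card (n := j) (by rw [Nat.card_zpowers, hj])
          have hnorm : zpowers s ≤ normalizer ((S : Subgroup Γ) : Set Γ) :=
            zpowers_le.2 (zpow_mem hmN _)
          have hpg := hzp.to_sup_of_normal_right' S.2 hnorm
          exact (S.is_maximal' hpg le_sup_right).le (le_sup_left (a := zpowers s) (mem_zpowers s))
        have hca : c * a * c⁻¹ = a := by
          rw [← mem_centralizer_iff.1 hcC a ha, mul_inv_cancel_right]
        have key : a⁻¹ * (m * a * m⁻¹) = ⁅a⁻¹, s⁆ := by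
          rw [← hm1, mul_inv_rev, show s * c * a * (c⁻¹ * s⁻¹) = s * (c * a * c⁻¹) * s⁻¹ by group, hca,
            commutatorElement_def, inv_inv]
          group
        rw [key]
        exact commutator_mem_commutator (inv_mem ha) hsS
      have hle' : (S : Subgroup Γ) ≤ ⁅(S : Subgroup Γ), (S : Subgroup Γ)⁆ :=
        (le_inf le_rfl hSN').trans hfoc
      haveI : Nontrivial ↥(S : Subgroup Γ) := (nontrivial_iff_ne_bot _).2 hS
      haveI : Group.IsSolvable ↥(S : Subgroup Γ) := by
        haveI := S.2.isNilpotent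
        infer_instance
      refine (Group.IsSolvable.commutator_lt_top_of_nontrivial ↥(S : Subgroup Γ)).ne ?_
      refine (map_injective (S : Subgroup Γ).subtype_injective) ?_
      rw [map_subtype_commutator, ← MonoidHom.range_eq_map, range_subtype]
      exact le_antisymm (commutator_le_self _) hle'
    · let R := Z.subgroupOf N
      haveI hRn : R.Normal := normal_subgroupOf_iff_le_normalizer (hZS.trans hSN) |>.2 le_rfl
      set φ : ↥N →* ↥N ⧸ R := QuotientGroup.mk' R with hφ
      have hφs : Function.Surjective φ := QuotientGroup.mk'_surjective R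
      let S' : Sylow p N := S.subtype hSN
      let T : Sylow p (↥N ⧸ R) := S'.mapSurjective (f := φ) hφs
      have hT : (T : Subgroup (↥N ⧸ R)) = (S' : Subgroup N).map φ := Sylow.coe_mapSurjective _ _
      have hS'0 : (S' : Subgroup N) = (S : Subgroup Γ).subgroupOf N := Sylow.coe_subtype _ _
      have hker : R ≤ (S' : Subgroup N) := by rw [hS'0]; exact comap_mono hZS
      have hcomap : (T : Subgroup (↥N ⧸ R)).comap φ = (S' : Subgroup N) := by
        rw [hT, comap_map_eq, hφ, QuotientGroup.ker_mk', sup_eq_left.2 hker]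
      have hlt : Nat.card (↥N ⧸ R) < n := by
        refine lt_of_lt_of_le ?_ (hn ▸ card_le_card_group N)
        rw [card_eq_card_quotient_mul_card_subgroup R]
        refine lt_mul_of_one_lt_right Nat.card_pos ?_
        refine one_lt_card_iff_ne_bot R |>.2 fun hb => hZne ?_
        rw [← map_subgroupOf_eq_of_le (hZS.trans hSN)]
        show R.map N.subtype = ⊥
        rw [hb, Subgroup.map_bot]
      have hTne : (T : Subgroup (↥N ⧸ R)) ≠ ⊥ := fun hb => hZlt.not_ge fun x hx => by
        have : (⟨x, hSN hx⟩ : N) ∈ (⊥ : Subgroup (↥N ⧸ R)).comap φ := by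
          rw [← hb, hcomap, hS'0]; exact hx
        rw [mem_comap, mem_bot] at this
        exact (QuotientGroup.eq_one_iff (⟨x, hSN hx⟩ : N)).1 this
      refine ih _ hlt (↥N ⧸ R) rfl (fun Δ _ _ hΔ =>
        hsec Δ (hΔ.trans ((IsSect.quotient R).trans (IsSect.subgroup N)))) T hTne ?_ ?_
      · intro x hx hxc
        obtain ⟨g, rfl⟩ := hφs x
        obtain ⟨k, r, hr, hkr⟩ := Nat.exists_eq_pow_mul_and_not_dvd
          (orderOf_pos g).ne' p hp.one_lt.ne'
        obtain ⟨m, hm⟩ := exists_pow_eq_self_of_coprime (x := φ g) (n := p ^ k)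
          ((Nat.Coprime.pow_right k hxc).symm)
        set g' := (g ^ p ^ k) ^ m with hg'
        have hφg' : φ g' = φ g := by rw [hg', map_pow, map_pow, hm]
        have hgS : g' ∈ normalizer ((S' : Subgroup N) : Set N) := by
          rw [mem_normalizer_iff]
          intro y
          rw [← hcomap, mem_comap, mem_comap, map_mul, map_mul, map_inv, hφg']
          exact mem_normalizer_iff.1 hx (φ y)
        have hgS' : (g' : Γ) ∈ normalizer ((S : Subgroup Γ) : Set Γ) := by
          rw [mem_normalizer_iff]
          intro y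
          constructor
          · intro hy
            have := (mem_normalizer_iff.1 hgS ⟨y, hSN hy⟩).1 (by rw [hS'0]; exact hy)
            rw [hS'0] at this
            exact this
          · intro hy
            have hyN : y ∈ N := by
              have h3 := mul_mem (mul_mem (inv_mem g'.2) (hSN hy)) g'.2
              simpa [mul_assoc] using h3
            have := (mem_normalizer_iff.1 hgS ⟨y, hyN⟩).2 (by rw [hS'0]; exact hy)
            rw [hS'0] at this
            exact this
        have hord : (orderOf (g' : Γ)).Coprime p := by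
          rw [orderOf_coe]
          refine ((hp.coprime_iff_not_dvd).2 hr).symm.coprime_dvd_left (orderOf_dvd_of_pow_eq_one ?_)
          rw [hg', ← pow_mul, ← pow_mul, orderOf_dvd_iff_pow_eq_one.symm, hkr]
          exact ⟨m, by ring⟩
        have hC := hN _ hgS' hord
        refine mem_centralizer_iff.2 fun z hz => ?_
        rw [SetLike.mem_coe, hT] at hz
        obtain ⟨y, hy, rfl⟩ := hz
        rw [SetLike.mem_coe, hS'0] at hy
        rw [← hφg', ← map_mul, ← map_mul]
        exact congrArg φ (Subtype.ext (mem_centralizer_iff.1 hC y hy))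
      · rw [hT, ← map_top_commutator φ hφs]
        refine map_mono fun y hy => ?_
        rw [hS'0] at hy
        obtain ⟨z, hz, hzy⟩ : (y : Γ) ∈ (commutator ↥N).map N.subtype := by
          rw [map_subtype_commutator]; exact hSN' hy
        rwa [← Subtype.coe_injective hzy]

theorem exists_index_prime_of_tgtOK {W : ∀ (Q : Type u) [Group Q], Subgroup Q}
    (hW : IsCharPFunctor.{u} p W) {G : Type u} [Group G] [Finite G]
    (hsec : ∀ (Δ : Type u) [Group Δ] [Finite Δ], IsSect Δ G →
        TgtOK p ({W} : Set (∀ (Q : Type u) [Group Q], Subgroup Q)) Δ)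
    (S : Sylow p G) (hS : (S : Subgroup G) ≠ ⊥)
    (hN : ∀ g ∈ normalizer ((S : Subgroup G) : Set G), (orderOf g).Coprime p →
          g ∈ centralizer ((S : Subgroup G) : Set G)) :
    ∃ N : Subgroup G, N.Normal ∧ N.index = p := by
  refine exists_index_prime ?_
  by_contra hnd
  refine not_le_derived hW _ G rfl hsec S hS hN fun x hx => ?_
  rw [← commutator_def]
  obtain ⟨k, hk⟩ := IsPGroup.iff_orderOf.1 S.2 ⟨x, hx⟩
  rw [Subgroup.orderOf_mk] at hk
  have hc : (orderOf x).Coprime (commutator G).index := by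
    rw [hk]
    exact Nat.Coprime.pow_left k ((Fact.out : p.Prime).coprime_iff_not_dvd.2 hnd)
  refine (QuotientGroup.eq_one_iff x).1 (orderOf_eq_one_iff.1 ?_)
  exact Nat.eq_one_of_dvd_coprimes hc (orderOf_map_dvd (QuotientGroup.mk' _) x) (orderOf_dvd_natCard _)

/-- Control of transfer is invariant under isomorphism. -/
theorem tgtOK_congr {𝓦 : Set (∀ (Q : Type u) [Group Q], Subgroup Q)} {Γ Δ : Type u} [Group Γ] [Group Δ]
    [Finite Γ] [Finite Δ] (e : Γ ≃* Δ) (h𝓦 : ∀ W ∈ 𝓦, IsCharPFunctor.{u} p W)
    (h : TgtOK p 𝓦 Γ) : TgtOK p 𝓦 Δ := by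
  intro S
  let T : Sylow p Γ := S.mapSurjective (f := e.symm.toMonoidHom) e.symm.surjective
  have hT : (T : Subgroup Γ).map e.toMonoidHom = (S : Subgroup Δ) := by
    rw [show (T : Subgroup Γ) = _ from Sylow.coe_mapSurjective _ _, map_map,
      show e.toMonoidHom.comp e.symm.toMonoidHom = MonoidHom.id Δ from
        MonoidHom.ext e.apply_symm_apply, map_id]
  have h1 := (map_mono (f := e.toMonoidHom) (h T)).trans (map_tgt_le h𝓦 e.toMonoidHom T.2
    fun x _ hx => e.injective (hx.trans (map_one e).symm))
  rwa [map_inf _ _ _ e.injective, map_top_commutator _ e.surjective, hT] at h1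

theorem tgtOK_of_controlsTransferIn {W : ∀ (Q : Type u) [Group Q], Subgroup Q}
    (hW : IsCharPFunctor.{u} p W) {G : Type u} [Group G] [Finite G]
    (hctl : ∀ (K R : Subgroup G) [hR : (R.subgroupOf K).Normal],
      ControlsTransferIn p (inducedFunctor (G := (↥K ⧸ R.subgroupOf K)) W) ⊤)
    (Δ : Type u) [Group Δ] [Finite Δ] (hΔ : IsSect Δ G) :
    TgtOK p ({W} : Set (∀ (Q : Type u) [Group Q], Subgroup Q)) Δ := by
  obtain ⟨K, R, hR, ⟨e⟩⟩ := hΔ.exists_quotient
  refine tgtOK_congr e (by rintro _ rfl; exact hW) ((tgtOK_iff (by rintro _ rfl; exact hW)).2 ?_)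
  rw [Set.image_singleton]
  exact (transfer_single_iff _ _).1 (hctl K R)

end CfsgLib.Techniques.Functor
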