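import Cfsg.Agent.Lib.Techniques.Functor.SectionStatements
import Mathlib.GroupTheory.Transfer
import Mathlib.GroupTheory.Abelianization.Defs

/-!
If a set of isomorphism-invariant `p`-group functors controls transfer on `O_p` in the constrained
sections, it controls transfer in every section.
-/

namespace CfsgLib.Techniques.Functor

open Subgroup Cfsg
open scoped commutatorElement
open CfsgLib.Fusion (conjSub mem_conjSub conjSub_conjSub conjSub_one conjSub_mono card_conjSub
  conjSub_eq_iff_mem_normalizer conj_mem_conjSub)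

universe u

variable {p : ℕ} [Fact p.Prime] {𝓦 : Set (∀ (Q : Type u) [Group Q], Subgroup Q)}

section

variable {G : Type u} [Group G]

/-- The subgroup generated by the `T ∩ N_G(W T)'`. -/
def tgt (𝓦 : Set (∀ (Q : Type u) [Group Q], Subgroup Q)) (T : Subgroup G) : Subgroup G :=
  ⨆ W ∈ 𝓦, T ⊓ ⁅normalizer ((inducedFunctor W T : Subgroup G) : Set G),
    normalizer ((inducedFunctor W T : Subgroup G) : Set G)⁆

theorem transferTarget_top_eq (T : Subgroup G) :
    transferTarget ⊤ ((fun W => inducedFunctor (G := G) W) '' 𝓦) T = tgt 𝓦 T := by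
  simp only [transferTarget, tgt, iSup_image, top_inf_eq]

theorem tgt_le (T : Subgroup G) : tgt 𝓦 T ≤ T ⊓ ⁅(⊤ : Subgroup G), (⊤ : Subgroup G)⁆ :=
  iSup₂_le fun _ _ => inf_le_inf_left _ (commutator_mono le_top le_top)

theorem le_tgt {W : ∀ (Q : Type u) [Group Q], Subgroup Q} (hW : W ∈ 𝓦) (T : Subgroup G) :
    T ⊓ ⁅normalizer ((inducedFunctor W T : Subgroup G) : Set G),
      normalizer ((inducedFunctor W T : Subgroup G) : Set G)⁆ ≤ tgt 𝓦 T :=
  le_iSup₂ (f := fun W (_ : W ∈ 𝓦) => T ⊓ ⁅normalizer ((inducedFunctor W T : Subgroup G) : Set G),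
    normalizer ((inducedFunctor W T : Subgroup G) : Set G)⁆) W hW

/-- `𝓦` controls transfer in `G`. -/
def TgtOK (p : ℕ) (𝓦 : Set (∀ (Q : Type u) [Group Q], Subgroup Q)) (G : Type u) [Group G] : Prop :=
  ∀ S : Sylow p G, (S : Subgroup G) ⊓ ⁅(⊤ : Subgroup G), (⊤ : Subgroup G)⁆ ≤ tgt 𝓦 (S : Subgroup G)

variable [Finite G]

theorem tgtOK_iff (h𝓦 : ∀ W ∈ 𝓦, IsCharPFunctor.{u} p W) :
    TgtOK p 𝓦 G ↔ FamilyControlsTransferIn p ((fun W => inducedFunctor (G := G) W) '' 𝓦) ⊤ := by
  constructor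
  · intro h
    exact ⟨((default : Sylow p G) : Subgroup G), le_top, (default : Sylow p G).2,
      relIndex_sylow_not_dvd _ le_top, le_antisymm ((h default).trans (transferTarget_top_eq _).ge)
        (iSup₂_le fun W _ => inf_le_inf_left _ (commutator_mono le_top le_top))⟩
  · intro h S
    rw [family_transfer_at (image_isConjugacyFunctor h𝓦) h S.2 le_top (relIndex_sylow_not_dvd S le_top),
      transferTarget_top_eq]

/-- A central element of a Sylow subgroup lying in `G'` lies in the derived subgroup of the Sylow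
subgroup. -/
theorem central_inf_commutator_le (S : Sylow p G) {z : G} (hz : z ∈ (S : Subgroup G))
    (hzc : z ∈ center G) (hzG : z ∈ ⁅(⊤ : Subgroup G), (⊤ : Subgroup G)⁆) :
    z ∈ ⁅(S : Subgroup G), (S : Subgroup G)⁆ := by
  let ϕ : ↥(S : Subgroup G) →* Abelianization ↥(S : Subgroup G) := Abelianization.of
  have h0 : MonoidHom.transfer ϕ z = 1 := Abelianization.commutator_subset_ker _ hzG
  have key : ∀ (k : ℕ) (g₀ : G), g₀⁻¹ * z ^ k * g₀ ∈ (S : Subgroup G) →
      g₀⁻¹ * z ^ k * g₀ = z ^ k := fun k g₀ _ => by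
    rw [mul_assoc, ← mem_center_iff.1 (pow_mem hzc k) g₀, inv_mul_cancel_left]
  rw [MonoidHom.transfer_eq_pow ϕ z key] at h0
  have h1 : z ^ (S : Subgroup G).index ∈ ⁅(S : Subgroup G), (S : Subgroup G)⁆ := by
    rw [← map_subtype_commutator]
    exact ⟨_, (QuotientGroup.eq_one_iff _).1 h0, rfl⟩
  obtain ⟨k, hk⟩ := IsPGroup.iff_orderOf.1 S.2 ⟨z, hz⟩
  obtain ⟨m, hm⟩ := exists_pow_eq_self_of_coprime (x := z) (n := (S : Subgroup G).index) (by
    rw [← Subgroup.orderOf_mk (a := z) (ha := hz), hk]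
    exact Nat.Coprime.pow_right k ((CfsgLib.Cores.coprime_iff_not_dvd Fact.out _).2 S.not_dvd_index))
  rw [← hm]
  exact pow_mem h1 m

/-- A subgroup in which `𝓦` controls transfer. -/
theorem sub_transfer (h𝓦 : ∀ W ∈ 𝓦, IsCharPFunctor.{u} p W) {N T : Subgroup G}
    (hN : TgtOK p 𝓦 ↥N) (hT : IsPGroup p T) (hTN : T ≤ N) (hTi : ¬ p ∣ T.relIndex N) :
    T ⊓ ⁅N, N⁆ ≤ transferTarget N ((fun W => inducedFunctor (G := G) W) '' 𝓦) T := by
  let T' : Sylow p N := (hT.comap_subtype (K := N)).toSylow hTi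
  have hT0 : (T' : Subgroup N) = T.subgroupOf N := IsPGroup.toSylow_coe _ _
  have hT' : (T' : Subgroup N).map N.subtype = T := by rw [hT0, map_subgroupOf_eq_of_le hTN]
  intro x hx
  obtain ⟨y, hy, rfl⟩ : x ∈ (commutator ↥N).map N.subtype := by
    rw [map_subtype_commutator]; exact hx.2
  have h1 := hN T' ⟨by rw [hT0]; exact hx.1, hy⟩
  refine (?_ : (tgt 𝓦 (T' : Subgroup N)).map N.subtype ≤ _) (mem_map_of_mem _ h1)
  simp only [tgt, Subgroup.map_iSup]
  refine iSup₂_le fun W hW => le_iSup₂_of_le _ ⟨W, hW, rfl⟩ ?_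
  have hM : (normalizer ((inducedFunctor W (T' : Subgroup N) : Subgroup N) : Set N)).map N.subtype ≤
      N ⊓ normalizer ((inducedFunctor W T : Subgroup G) : Set G) := by
    refine le_inf (map_subtype_le _) ?_
    have := map_normalizer_induced (h𝓦 W hW) N.subtype T'.2 fun x _ hx => Subtype.ext hx
    rwa [hT'] at this
  exact le_inf ((map_mono inf_le_left).trans hT'.le)
    (((map_mono inf_le_right).trans (map_commutator _ _ _).le).trans (commutator_mono hM hM))

theorem sub_transfer_sylow (h𝓦 : ∀ W ∈ 𝓦, IsCharPFunctor.{u} p W) (S : Sylow p G) {H : Subgroup G}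
    (hSH : (S : Subgroup G) ≤ H) (hH : TgtOK p 𝓦 ↥H) :
    (S : Subgroup G) ⊓ ⁅H, H⁆ ≤ tgt 𝓦 (S : Subgroup G) := by
  refine (sub_transfer h𝓦 hH S.2 hSH (relIndex_sylow_not_dvd S hSH)).trans ?_
  refine iSup₂_le ?_
  rintro _ ⟨W, hW, rfl⟩
  exact (inf_le_inf_left _ (commutator_mono inf_le_right inf_le_right)).trans (le_tgt hW _)

/-- `C_S(P) ≤ P` gives a normal `p'`-subgroup `K` with `C(P) ≤ K P`. -/
theorem exists_coprime_core (S : Sylow p G)
    (hle : (S : Subgroup G) ⊓ centralizer ((pCore p G : Subgroup G) : Set G) ≤ pCore p G) :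
    ∃ K : Subgroup G, K.Normal ∧ (Nat.card K).Coprime p ∧
      centralizer ((pCore p G : Subgroup G) : Set G) ≤ K ⊔ pCore p G := by
  set P := pCore p G with hP
  have hPn : P.Normal := by
    have := CfsgLib.Cores.pCore_characteristic (G := G) p
    infer_instance
  set C := centralizer (P : Set G) with hC
  obtain ⟨U, hU⟩ := CfsgLib.Transfer.exists_sylow_map_eq_inf C S
  have hUC : normalizer ((U : Subgroup C) : Set C) ≤ centralizer ((U : Subgroup C) : Set C) := by
    intro c _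
    refine mem_centralizer_iff.2 fun z hz => Subtype.ext ?_
    have hzP : (z : G) ∈ P := hle (hU ▸ ⟨z, hz, rfl⟩)
    exact mem_centralizer_iff.1 c.2 (z : G) hzP
  obtain ⟨U', N', hN', hcomp⟩ :=
    CfsgLib.Transfer.hasNormalPComplement_of_normalizer_le_centralizer U hUC
  refine ⟨(pPrimeCore p C).map C.subtype, CfsgLib.Cores.map_subtype_pPrimeCore_normal p C,
    by rw [card_map_of_injective C.subtype_injective]; exact CfsgLib.Cores.coprime_card_pPrimeCore p,
    ?_⟩
  have hN'K : N'.map C.subtype ≤ (pPrimeCore p C).map C.subtype :=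
    map_mono (CfsgLib.Cores.le_pPrimeCore (CfsgLib.Transfer.coprime_card_of_isComplement' U' hcomp))
  have h1 : (U' : Subgroup C).map C.subtype ≤ P := by
    obtain ⟨c, hc⟩ := MulAction.exists_smul_eq C U U'
    rw [← hc]
    rintro _ ⟨y, hy, rfl⟩
    rw [Sylow.coe_subgroup_smul] at hy
    obtain ⟨z, hz, rfl⟩ := hy
    have h2 : (z : G) ∈ P := hle (hU ▸ ⟨z, hz, rfl⟩)
    exact hPn.conj_mem _ h2 c
  calc C = (⊤ : Subgroup C).map C.subtype := by
        rw [← MonoidHom.range_eq_map, range_subtype]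
    _ = (N' ⊔ (U' : Subgroup C)).map C.subtype := by rw [hcomp.sup_eq_top]
    _ ≤ _ := by rw [Subgroup.map_sup]; exact sup_le_sup hN'K h1

theorem exists_mul_mem_normalizer {K W0 : Subgroup G} [K.Normal] (hK : (Nat.card K).Coprime p)
    (hWp : IsPGroup p W0) {n0 : G}
    (hn0 : QuotientGroup.mk' K n0 ∈ normalizer ((W0.map (QuotientGroup.mk' K) : Subgroup (G ⧸ K)) : Set (G ⧸ K))) :
    ∃ k ∈ K, k * n0 ∈ normalizer (W0 : Set G) := by
  set π := QuotientGroup.mk' K
  obtain ⟨k1, hk1, hk1m⟩ := CfsgLib.Fusion.exists_conj_mem_of_le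
    (hWp.map (MulAut.conj n0).toMonoidHom) hWp (N := K ⊔ W0) (by
      rintro _ ⟨w, hw, rfl⟩
      have h1 : π (n0 * w * n0⁻¹) ∈ W0.map π := by
        rw [map_mul, map_mul, map_inv]
        exact (mem_normalizer_iff.1 hn0 _).1 (mem_map_of_mem π hw)
      obtain ⟨w', hw', hw'eq⟩ := h1
      have h2 : n0 * w * n0⁻¹ * w'⁻¹ ∈ K := by
        rw [← QuotientGroup.eq_one_iff]
        show π (n0 * w * n0⁻¹ * w'⁻¹) = 1
        rw [map_mul, map_inv, hw'eq, mul_inv_cancel]
      show n0 * w * n0⁻¹ ∈ K ⊔ W0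
      rw [show n0 * w * n0⁻¹ = n0 * w * n0⁻¹ * w'⁻¹ * w' by group]
      exact mul_mem (mem_sup_left h2) (mem_sup_right hw')) le_sup_right (by
      intro hd
      refine (CfsgLib.Cores.coprime_iff_not_dvd Fact.out _).1 hK (hd.trans ?_)
      have h1 : Nat.card W0 * W0.relIndex (K ⊔ W0) = Nat.card ↥(K ⊔ W0) := by
        rw [← relIndex_bot_left W0, ← relIndex_bot_left (K ⊔ W0)]
        exact relIndex_mul_relIndex _ _ _ bot_le le_sup_right
      have h2 := CfsgLib.Cores.card_sup_dvd_mul K W0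
      rw [← h1, mul_comm (Nat.card K)] at h2
      exact Nat.dvd_of_mul_dvd_mul_left Nat.card_pos h2)
  obtain ⟨w1, hw1, k0, hk0, rfl⟩ := mem_sup_of_normal_right.1 (sup_comm K W0 ▸ hk1)
  refine ⟨k0, hk0, ?_⟩
  rw [← conjSub_eq_iff_mem_normalizer]
  refine eq_of_le_of_card_ge ?_ (card_conjSub _ _).ge
  rintro _ ⟨w, hw, rfl⟩
  have h1 := hk1m (n0 * w * n0⁻¹) ⟨w, hw, rfl⟩
  have h2 := mul_mem (mul_mem (inv_mem hw1) h1) hw1
  rwa [show w1⁻¹ * (w1 * k0 * (n0 * w * n0⁻¹) * (w1 * k0)⁻¹) * w1 =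
    k0 * n0 * w * (k0 * n0)⁻¹ by group] at h2

end

/-- The main reduction for transfer. -/
theorem tgtOK_of_constrained (h𝓦 : ∀ W ∈ 𝓦, IsCharPFunctor.{u} p W) :
    ∀ (G : Type u) [Group G] [Finite G],
      (∀ (Δ : Type u) [Group Δ] [Finite Δ], IsSect Δ G →
        centralizer ((pCore p Δ : Subgroup Δ) : Set Δ) ≤ pCore p Δ → ∀ S : Sylow p Δ,
        (∀ H : Subgroup Δ, H ≠ ⊤ → (S : Subgroup Δ) ≤ H →
          (S : Subgroup Δ) ⊓ ⁅H, H⁆ ≤ tgt 𝓦 (S : Subgroup Δ)) →
        pCore p Δ ⊓ ⁅(⊤ : Subgroup Δ), (⊤ : Subgroup Δ)⁆ ≤ tgt 𝓦 (S : Subgroup Δ)) →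
      TgtOK p 𝓦 G := by
  suffices H : ∀ n, ∀ (G : Type u) [Group G] [Finite G], Nat.card G = n →
      (∀ (Δ : Type u) [Group Δ] [Finite Δ], IsSect Δ G →
        centralizer ((pCore p Δ : Subgroup Δ) : Set Δ) ≤ pCore p Δ → ∀ S : Sylow p Δ,
        (∀ H : Subgroup Δ, H ≠ ⊤ → (S : Subgroup Δ) ≤ H →
          (S : Subgroup Δ) ⊓ ⁅H, H⁆ ≤ tgt 𝓦 (S : Subgroup Δ)) →
        pCore p Δ ⊓ ⁅(⊤ : Subgroup Δ), (⊤ : Subgroup Δ)⁆ ≤ tgt 𝓦 (S : Subgroup Δ)) →
      TgtOK p 𝓦 G from fun G _ _ h => H _ G rfl h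
  intro n
  induction n using Nat.strong_induction_on with
  | _ n ih =>
  intro G _ _ hn hyp S
  set R := tgt 𝓦 (S : Subgroup G) with hR
  have hsub : ∀ H : Subgroup G, H ≠ ⊤ → TgtOK p 𝓦 ↥H := by
    intro H hH
    refine ih (Nat.card H) ?_ ↥H rfl fun Δ _ _ hΔ => hyp Δ (hΔ.trans (IsSect.subgroup H))
    rw [← hn, ← Nat.card_congr (Subgroup.topEquiv (G := G)).toEquiv]
    exact card_lt_of_lt (lt_top_iff_ne_top.2 hH)
  have hsubS : ∀ H : Subgroup G, H ≠ ⊤ → (S : Subgroup G) ≤ H → (S : Subgroup G) ⊓ ⁅H, H⁆ ≤ R :=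
    fun H hH hSH => sub_transfer_sylow h𝓦 S hSH (hsub H hH)
  have hS' : ⁅(S : Subgroup G), (S : Subgroup G)⁆ ≤ R := by
    have hSsect : TgtOK p 𝓦 ↥(S : Subgroup G) := by
      intro T
      have htop : pCore p ↥(S : Subgroup G) = ⊤ := CfsgLib.Cores.pCore_eq_top_iff.2 S.2
      refine le_trans ?_ (hyp _ (IsSect.subgroup _) (by rw [htop]; exact le_top) T fun H hH hTH => ?_)
      · rw [htop]; exact le_inf le_top inf_le_right
      · exfalso
        refine hH (top_le_iff.1 (le_trans (le_of_eq ?_) hTH))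
        exact T.3 (S.2.of_equiv Subgroup.topEquiv.symm) le_top
    exact (le_inf (commutator_le_self _) le_rfl).trans (sub_transfer_sylow h𝓦 S le_rfl hSsect)
  set P := pCore p G with hP
  have hPn : P.Normal := by
    have := CfsgLib.Cores.pCore_characteristic (G := G) p
    infer_instance
  have hPp : IsPGroup p P := CfsgLib.Cores.isPGroup_pCore p
  have hPS : P ≤ (S : Subgroup G) := CfsgLib.Cores.pCore_le_sylow S
  rcases eq_or_ne P ⊥ with hP0 | hP0
  · have h1 := transfer_local_global (image_isConjugacyFunctor (G := G) h𝓦) S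
      (Full p (S : Subgroup G)) (exists_full' S) (fun _ h => h) (fun _ _ h => full_of_le S h)
      (fun X hX hX0 hXf => ?_)
    · rw [h1, transferTarget_top_eq]
    have hXn : normalizer (X : Set G) ≠ ⊤ := by
      intro ht
      have := normalizer_eq_top_iff.1 ht
      exact hX0 (le_bot_iff.1 ((CfsgLib.Cores.le_pCore (S.2.to_le hX)).trans hP0.le))
    exact ⟨_, inf_le_right, isPGroup_norm S X, hXf, le_antisymm
      (sub_transfer h𝓦 (hsub _ hXn) (isPGroup_norm S X) inf_le_right hXf)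
      (iSup₂_le fun W _ => inf_le_inf_left _ (commutator_mono inf_le_left inf_le_left))⟩
  -- modulo `P`
  have hmodP : ¬ (S : Subgroup G) ≤ P →
      ∀ x ∈ (S : Subgroup G) ⊓ ⁅(⊤ : Subgroup G), (⊤ : Subgroup G)⁆,
        ∃ r ∈ R, r⁻¹ * x ∈ P := by
    intro hSP x hx
    set π := QuotientGroup.mk' P with hπ
    let Sb : Sylow p (G ⧸ P) := S.mapSurjective (QuotientGroup.mk'_surjective P)
    have hSb : (Sb : Subgroup (G ⧸ P)) = (S : Subgroup G).map π := Sylow.coe_mapSurjective _ _
    have hquot : TgtOK p 𝓦 (G ⧸ P) := by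
      refine ih (Nat.card (G ⧸ P)) ?_ _ rfl fun Δ _ _ hΔ => hyp Δ (hΔ.trans (IsSect.quotient P))
      rw [← hn, P.card_eq_card_quotient_mul_card_subgroup]
      exact lt_mul_of_one_lt_right Nat.card_pos (Finite.one_lt_card_iff_nontrivial.2
        ((nontrivial_iff_ne_bot P).2 hP0))
    have hxq : π x ∈ tgt 𝓦 (Sb : Subgroup (G ⧸ P)) := by
      refine hquot Sb ⟨by rw [hSb]; exact mem_map_of_mem π hx.1, ?_⟩
      have h1 := mem_map_of_mem π hx.2
      rw [map_commutator] at h1
      exact commutator_mono le_top le_top h1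
    have hle : tgt 𝓦 (Sb : Subgroup (G ⧸ P)) ≤ R.map π := by
      refine iSup₂_le fun W hW => ?_
      set H := (normalizer ((inducedFunctor W (Sb : Subgroup (G ⧸ P)) : Subgroup (G ⧸ P)) :
        Set (G ⧸ P))).comap π with hHdef
      have hSH : (S : Subgroup G) ≤ H := fun s hs =>
        normalizer_induced_ge (h𝓦 W hW) Sb.2 (le_normalizer (hSb ▸ mem_map_of_mem π hs))
      have hHne : H ≠ ⊤ := by
        intro ht
        have hn' : (inducedFunctor W (Sb : Subgroup (G ⧸ P))).Normal := by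
          rw [← normalizer_eq_top_iff, eq_top_iff]
          intro y _
          obtain ⟨y', rfl⟩ := QuotientGroup.mk'_surjective P y
          exact (ht.ge (mem_top y') : y' ∈ H)
        refine induced_ne_bot (h𝓦 W hW) Sb.2 ?_ (le_bot_iff.1 ((CfsgLib.Cores.le_pCore
          (Sb.2.to_le (induced_le _))).trans (CfsgLib.Cores.pCore_quotient_self p).le))
        rw [hSb, Ne, Subgroup.map_eq_bot_iff, QuotientGroup.ker_mk']
        exact hSP
      rintro y ⟨hyS, hyN⟩
      have hHmap : H.map π = normalizer ((inducedFunctor W (Sb : Subgroup (G ⧸ P)) :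
          Subgroup (G ⧸ P)) : Set (G ⧸ P)) :=
        map_comap_eq_self_of_surjective (QuotientGroup.mk'_surjective P) _
      rw [← hHmap, ← map_commutator] at hyN
      obtain ⟨h, hh, rfl⟩ := hyN
      rw [hSb] at hyS
      obtain ⟨s, hs, hsh⟩ := hyS
      refine mem_map_of_mem π (hsubS H hHne hSH ⟨?_, hh⟩)
      have : s⁻¹ * h ∈ P := by
        rw [← QuotientGroup.eq_one_iff]
        show π (s⁻¹ * h) = 1
        rw [map_mul, map_inv, hsh, inv_mul_cancel]
      have h2 := mul_mem hs (hPS this)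
      rwa [mul_inv_cancel_left] at h2
    obtain ⟨r, hr, hrx⟩ := hle hxq
    refine ⟨r, hr, ?_⟩
    rw [← QuotientGroup.eq_one_iff]
    show π (r⁻¹ * x) = 1
    rw [map_mul, map_inv, hrx, inv_mul_cancel]
  have hreduce : P ⊓ ⁅(⊤ : Subgroup G), (⊤ : Subgroup G)⁆ ≤ R →
      (S : Subgroup G) ⊓ ⁅(⊤ : Subgroup G), (⊤ : Subgroup G)⁆ ≤ R := by
    intro hPR x hx
    by_cases hSP : (S : Subgroup G) ≤ P
    · exact hPR ⟨hSP hx.1, hx.2⟩
    · obtain ⟨r, hr, hv⟩ := hmodP hSP x hx
      have hrG : r ∈ ⁅(⊤ : Subgroup G), (⊤ : Subgroup G)⁆ := (tgt_le _ hr).2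
      have hrx : r⁻¹ * x ∈ ⁅(⊤ : Subgroup G), (⊤ : Subgroup G)⁆ := mul_mem (inv_mem hrG) hx.2
      have h1 := mul_mem hr (hPR ⟨hv, hrx⟩)
      rwa [mul_inv_cancel_left] at h1
  have hCn : (centralizer (P : Set G)).Normal := inferInstance
  set L := centralizer (P : Set G) ⊔ (S : Subgroup G) with hL
  by_cases hLt : L = ⊤
  · -- `G = C(P) S`
    refine hreduce fun v hv => ?_
    have hDS : ⁅P, (⊤ : Subgroup G)⁆ ≤ ⁅(S : Subgroup G), (S : Subgroup G)⁆ := by
      rw [commutator_le]
      intro w hw y _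
      obtain ⟨c, hc, s, hs, rfl⟩ := mem_sup_of_normal_left.1
        (show y ∈ centralizer (P : Set G) ⊔ (S : Subgroup G) by rw [← hL, hLt]; exact mem_top y)
      have hwc : w * c = c * w := mem_centralizer_iff.1 hc w hw
      have h1 : ⁅w, s⁆ ∈ P := commutator_le_left P ⊤ (commutator_mem_commutator hw (mem_top s))
      have h2 : ⁅w, c * s⁆ = ⁅w, s⁆ := by
        have h0 : ⁅w, c⁆ = 1 := commutatorElement_eq_one_iff_mul_comm.2 hwc
        rw [Chief.elt_mul_right, h0, one_mul, ← mem_centralizer_iff.1 hc _ h1, mul_inv_cancel_right]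
      rw [h2]
      exact commutator_mem_commutator (hPS hw) hs
    set D := ⁅P, (⊤ : Subgroup G)⁆ with hD
    have hDn : D.Normal := inferInstance
    set π := QuotientGroup.mk' D
    let Sb : Sylow p (G ⧸ D) := S.mapSurjective (QuotientGroup.mk'_surjective D)
    have hSb : (Sb : Subgroup (G ⧸ D)) = (S : Subgroup G).map π := Sylow.coe_mapSurjective _ _
    have hvc : π v ∈ center (G ⧸ D) := by
      rw [mem_center_iff]
      intro y
      obtain ⟨y, rfl⟩ := QuotientGroup.mk'_surjective D y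
      have h1 : π ⁅v, y⁆ = 1 :=
        (QuotientGroup.eq_one_iff _).2 (commutator_mem_commutator hv.1 (mem_top y))
      rw [map_commutatorElement, commutatorElement_eq_one_iff_mul_comm] at h1
      exact h1.symm
    have hvG : π v ∈ ⁅(⊤ : Subgroup (G ⧸ D)), (⊤ : Subgroup (G ⧸ D))⁆ := by
      have h1 := mem_map_of_mem π hv.2
      rw [map_commutator] at h1
      exact commutator_mono le_top le_top h1
    have h1 := central_inf_commutator_le Sb (by rw [hSb]; exact mem_map_of_mem π (hPS hv.1)) hvc hvG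
    rw [hSb, ← map_commutator] at h1
    obtain ⟨s, hs, hsv⟩ := h1
    have h3 : s⁻¹ * v ∈ D := by
      rw [← QuotientGroup.eq_one_iff]
      show π (s⁻¹ * v) = 1
      rw [map_mul, map_inv, hsv, inv_mul_cancel]
    have h2 := mul_mem hs (hDS h3)
    rw [mul_inv_cancel_left] at h2
    exact hS' h2
  · set M := P ⊔ centralizer (P : Set G) with hM
    have hMn : M.Normal := inferInstance
    have hSL : (S : Subgroup G) ≤ L := le_sup_right
    have hML : M ≤ L := sup_le (hPS.trans le_sup_right) le_sup_left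
    set Q0 := (S : Subgroup G) ⊓ M with hQ0
    by_cases hQt : normalizer (Q0 : Set G) = ⊤
    · have hQn : Q0.Normal := normalizer_eq_top_iff.1 hQt
      have hQ0P : Q0 ≤ P := CfsgLib.Cores.le_pCore (S.2.to_le inf_le_left)
      obtain ⟨K, hKn, hKc, hCK⟩ := exists_coprime_core S
        ((inf_le_inf_left _ (le_sup_right : centralizer (P : Set G) ≤ M)).trans hQ0P)
      rcases eq_or_ne K ⊥ with hK0 | hK0
      · subst hK0
        rw [bot_sup_eq] at hCK
        exact hreduce (hyp G (IsSect.refl G) hCK S hsubS)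
      set π := QuotientGroup.mk' K with hπ
      let Sb : Sylow p (G ⧸ K) := S.mapSurjective (QuotientGroup.mk'_surjective K)
      have hSb : (Sb : Subgroup (G ⧸ K)) = (S : Subgroup G).map π := Sylow.coe_mapSurjective _ _
      have hquot : TgtOK p 𝓦 (G ⧸ K) := by
        refine ih (Nat.card (G ⧸ K)) ?_ _ rfl fun Δ _ _ hΔ => hyp Δ (hΔ.trans (IsSect.quotient K))
        rw [← hn, K.card_eq_card_quotient_mul_card_subgroup]
        exact lt_mul_of_one_lt_right Nat.card_pos (Finite.one_lt_card_iff_nontrivial.2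
          ((nontrivial_iff_ne_bot K).2 hK0))
      have hSK : ∀ x ∈ (S : Subgroup G), π x = 1 → x = 1 := by
        intro x hx hx1
        obtain ⟨m, hm⟩ := S.2 ⟨x, hx⟩
        rw [← orderOf_eq_one_iff]
        refine Nat.eq_one_of_dvd_coprimes (Nat.Coprime.pow_right m hKc) ?_
          (orderOf_dvd_of_pow_eq_one (congrArg Subtype.val hm))
        exact Subgroup.orderOf_dvd_natCard K ((QuotientGroup.eq_one_iff x).1 hx1)
      intro x hx
      have hxq : π x ∈ tgt 𝓦 (Sb : Subgroup (G ⧸ K)) := by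
        refine hquot Sb ⟨by rw [hSb]; exact mem_map_of_mem π hx.1, ?_⟩
        have h1 := mem_map_of_mem π hx.2
        rw [map_commutator] at h1
        exact commutator_mono le_top le_top h1
      have hle : tgt 𝓦 (Sb : Subgroup (G ⧸ K)) ≤ R.map π := by
        refine iSup₂_le fun W hW => ?_
        set W0 := inducedFunctor W (S : Subgroup G) with hW0
        set N := normalizer (W0 : Set G) with hN
        have hWimg : inducedFunctor W (Sb : Subgroup (G ⧸ K)) = W0.map π := by
          rw [hSb]; exact (map_induced (h𝓦 W hW) π S.2 hSK).symm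
        have hNb : normalizer ((inducedFunctor W (Sb : Subgroup (G ⧸ K)) : Subgroup (G ⧸ K)) :
            Set (G ⧸ K)) ≤ N.map π := by
          intro y hy
          obtain ⟨n0, rfl⟩ := QuotientGroup.mk'_surjective K y
          rw [hWimg] at hy
          obtain ⟨k, hk, hkn⟩ := exists_mul_mem_normalizer hKc (S.2.to_le (induced_le _)) hy
          exact ⟨k * n0, hkn, by
            rw [map_mul, show π k = 1 from (QuotientGroup.eq_one_iff k).2 hk, one_mul]⟩
        rintro y ⟨hyS, hyN⟩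
        have hyN' := commutator_mono hNb hNb hyN
        rw [← map_commutator] at hyN'
        obtain ⟨m, hm, rfl⟩ := hyN'
        rw [hSb] at hyS
        obtain ⟨s, hs, hsm⟩ := hyS
        refine ⟨s, le_tgt hW _ ⟨hs, ?_⟩, hsm⟩
        have hsN : s ∈ N := normalizer_induced_ge (h𝓦 W hW) S.2 (le_normalizer hs)
        have hmN : m ∈ N := commutator_le_self N hm
        set k := m⁻¹ * s with hk
        have hkK : k ∈ K := by
          rw [← QuotientGroup.eq_one_iff]
          show π (m⁻¹ * s) = 1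
          rw [map_mul, map_inv, hsm, inv_mul_cancel]
        let q : ↥N →* ↥N ⧸ commutator ↥N := QuotientGroup.mk' _
        have hq : q ⟨s, hsN⟩ = q ⟨k, mul_mem (inv_mem hmN) hsN⟩ := by
          have hm1 : q ⟨m, hmN⟩ = 1 := by
            refine (QuotientGroup.eq_one_iff _).2 ?_
            rw [← map_subtype_commutator] at hm
            obtain ⟨m', hm', hmm⟩ := hm
            exact (Subtype.ext hmm : m' = (⟨m, hmN⟩ : ↥N)) ▸ hm'
          rw [← one_mul (q ⟨k, _⟩), ← hm1, ← map_mul]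
          exact congrArg q (Subtype.ext (show s = m * (m⁻¹ * s) by group))
        have hq1 : q ⟨s, hsN⟩ = 1 := by
          obtain ⟨e, he⟩ := S.2 ⟨s, hs⟩
          rw [← orderOf_eq_one_iff]
          refine Nat.eq_one_of_dvd_coprimes (Nat.Coprime.pow_right e hKc) ?_ ?_
          · rw [hq]
            refine (orderOf_map_dvd q _).trans ?_
            rw [Subgroup.orderOf_mk]
            exact Subgroup.orderOf_dvd_natCard K hkK
          · refine (orderOf_map_dvd q _).trans ?_
            rw [Subgroup.orderOf_mk]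
            exact orderOf_dvd_of_pow_eq_one (congrArg Subtype.val he)
        rw [← map_subtype_commutator]
        exact ⟨_, (QuotientGroup.eq_one_iff _).1 hq1, rfl⟩
      obtain ⟨r, hr, hrx⟩ := hle hxq
      have hrS : r ∈ (S : Subgroup G) := (tgt_le _ hr).1
      have hxS : x ∈ (S : Subgroup G) := hx.1
      have h3 : r⁻¹ * x = 1 := hSK _ (mul_mem (inv_mem hrS) hxS) (by
        rw [map_mul, map_inv, hrx, inv_mul_cancel])
      rwa [← inv_mul_eq_one.1 h3]
    · obtain ⟨T, hT⟩ := CfsgLib.Transfer.exists_sylow_map_eq_inf M S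
      have hSH : (S : Subgroup G) ≤ normalizer (Q0 : Set G) := by
        intro s hs
        rw [← conjSub_eq_iff_mem_normalizer, hQ0, conjSub_inf, conjSub_self_of_mem hs,
          conjSub_normal M]
      have hctrl : Ctrl (S : Subgroup G) ⊤ {L, normalizer (Q0 : Set G)} := by
        refine glue S hSL hSH (fun g => ?_) (fun A g hg _ hgA => Fus.of_mem (Or.inl rfl) hg hgA)
          (fun A g hg _ hgA => Fus.of_mem (Or.inr rfl) hg hgA)
        have hfr := Sylow.normalizer_sup_eq_top T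
        rw [hT] at hfr
        obtain ⟨m, hm, m', hm', rfl⟩ := mem_sup_of_normal_left.1
          (show g ∈ M ⊔ normalizer (Q0 : Set G) by rw [sup_comm, hfr]; exact mem_top g)
        exact ⟨m, hML hm, m', hm', rfl⟩
      refine inf_commutator_le S.2 le_top (relIndex_sylow_not_dvd S le_top) fun a ha g _ hga => ?_
      have hA : conjSub g (zpowers a) ≤ (S : Subgroup G) := by
        show (zpowers a).map (MulAut.conj g).toMonoidHom ≤ _
        rw [MonoidHom.map_zpowers]
        exact zpowers_le.2 hga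
      obtain ⟨c, hc, hcg⟩ := hctrl (zpowers a) g (mem_top g) (zpowers_le.2 ha) hA
      rw [← hcg a (mem_zpowers a)]
      clear hcg
      induction hc with
      | refl => simp
      | @step e m H he hH hm hle ihc =>
        have he' : e * a * e⁻¹ ∈ (S : Subgroup G) :=
          he.conjSub_le (zpowers_le.2 ha) (conj_mem_conjSub (mem_zpowers a))
        have hme : m * e * a * (m * e)⁻¹ ∈ (S : Subgroup G) := hle (conj_mem_conjSub (mem_zpowers a))
        have h1 : (e * a * e⁻¹)⁻¹ * (m * e * a * (m * e)⁻¹) ∈ R := by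
          have hmem : (e * a * e⁻¹)⁻¹ * (m * e * a * (m * e)⁻¹) ∈ (S : Subgroup G) :=
            mul_mem (inv_mem he') hme
          refine (show (S : Subgroup G) ⊓ ⁅H, H⁆ ≤ R from ?_) ⟨hmem, ?_⟩
          · rcases hH with rfl | rfl
            · exact hsubS _ hLt hSL
            · exact hsubS _ hQt hSH
          · rw [show (e * a * e⁻¹)⁻¹ * (m * e * a * (m * e)⁻¹) = ⁅(e * a * e⁻¹)⁻¹, m⁆ by
              simp only [commutatorElement_def]; group]
            refine commutator_mem_commutator (inv_mem ?_) hm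
            rcases hH with rfl | rfl
            · exact hSL he'
            · exact hSH he'
        have h2 := mul_mem ihc h1
        rwa [show a⁻¹ * (e * a * e⁻¹) * ((e * a * e⁻¹)⁻¹ * (m * e * a * (m * e)⁻¹)) =
          a⁻¹ * (m * e * a * (m * e)⁻¹) by group] at h2

end CfsgLib.Techniques.Functor
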